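import Cfsg.Agent.Omega.FOne.TvwBlock
import Cfsg.Agent.Omega.NatPair.Semi
import Cfsg.Agent.Mrg.Omega.Tools.OddFix

section


/-!
# THEOREM AT (bb OMEGA #19477, helper201): a module which is an extension of the natural `SL₂(F)`-module by a
trivial module

`l : SL₂(F) →* GL(W)`, `e : W → F²` equivariant and onto, `l` trivial on `ker e`, `F` of characteristic 2, `|F| > 2`:
the torus gives a section `sg : F² → W` of `e` (equivariant for the torus and the Weyl element), and the root group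
acts by `(x₀, x₁) ↦ (x₀ + b x₁, x₁) + τ(b x₁²)`.
-/

set_option autoImplicit false
set_option linter.unusedSectionVars false

namespace Cfsg.Agent.Omega.FOne.AT

open Cfsg.Agent.Lib.SL2Mat Cfsg.Agent.Omega.NatPair
open Cfsg.Agent.Omega.FOne.Tvw (addself z2 eq_of_add_eq_zero')

section field

variable {F : Type*} [Field F] [Fintype F] [DecidableEq F]

theorem sum_units_mul (h : ∃ ν : F, ν ≠ 0 ∧ ν ≠ 1) (x : F) : ∑ s : Fˣ, (s : F) * x = 0 := by
  obtain ⟨ν, h0, h1⟩ := h
  have e : ∑ s : Fˣ, (s : F) * x = ν * ∑ s : Fˣ, (s : F) * x := by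
    rw [Finset.mul_sum]
    refine (Fintype.sum_equiv (Equiv.mulLeft (Units.mk0 ν h0)) _ _ fun s => ?_).symm
    rw [Equiv.coe_mulLeft, Units.val_mul, Units.val_mk0, mul_assoc]
  have e2 : (ν - 1) * ∑ s : Fˣ, (s : F) * x = 0 := by linear_combination -e
  rcases mul_eq_zero.1 e2 with h2 | h2
  · exact absurd (sub_eq_zero.1 h2) h1
  · exact h2

theorem sum_units_inv_mul (h : ∃ ν : F, ν ≠ 0 ∧ ν ≠ 1) (x : F) : ∑ s : Fˣ, (s : F)⁻¹ * x = 0 := by
  rw [← sum_units_mul h x]
  refine Fintype.sum_equiv (Equiv.inv Fˣ) _ _ fun s => ?_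
  rw [Equiv.inv_apply, Units.val_inv_eq_inv_val]

theorem odd_units [CharP F 2] : Odd (Fintype.card Fˣ) := by
  have h1 : Fintype.card F = Fintype.card Fˣ + 1 := Fintype.card_eq_card_units_add_one F
  have h2 : ((Fintype.card F : ℕ) : F) = 0 := Nat.cast_card_eq_zero F
  have h3 : 2 ∣ Fintype.card F := (CharP.cast_eq_zero_iff F 2 _).1 h2
  rw [Nat.odd_iff]
  omega

end field

section two

variable {A : Type*} [AddCommGroup A] [Module (ZMod 2) A]

theorem odd_nsmul {n : ℕ} (hn : Odd n) (w : A) : n • w = w := by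
  obtain ⟨k, rfl⟩ := hn
  rw [add_smul, mul_smul, one_smul, two_smul, addself, zero_add]

end two

variable {W : Type*} [AddCommGroup W] [Module (ZMod 2) W] {F : Type*} [Field F]

/-- `l` is an action of `SL₂(F)` on `W`, `e : W → F²` is equivariant and onto, `l` is trivial on `ker e`. -/
structure Sl (l : Matrix.SpecialLinearGroup (Fin 2) F →* (W ≃ₗ[ZMod 2] W)) (e : W →+ (Fin 2 → F)) : Prop where
  act : ∀ A w, e (l A w) = ap A (e w)
  tr : ∀ A w, e w = 0 → l A w = w
  sur : ∀ x, ∃ w, e w = x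

variable {l : Matrix.SpecialLinearGroup (Fin 2) F →* (W ≃ₗ[ZMod 2] W)} {e : W →+ (Fin 2 → F)}

/-- the torus element -/
abbrev tor (s : Fˣ) : Matrix.SpecialLinearGroup (Fin 2) F := dg (s : F) s.ne_zero

theorem tor_mul (s t : Fˣ) : tor s * tor t = tor (s * t) := by
  refine ext_ent ?_ ?_ ?_ ?_ <;> simp [ent_mul, mul_comm]

theorem ap_tor (s : Fˣ) (x : Fin 2 → F) : ap (tor s) x = ![(s : F) * x 0, (s : F)⁻¹ * x 1] := by
  apply ext2
  · rw [ap_zero']; simp
  · rw [ap_one']; simp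

theorem l_mul (A B : Matrix.SpecialLinearGroup (Fin 2) F) (w : W) : l (A * B) w = l A (l B w) := by
  rw [map_mul]; rfl

theorem l_one (w : W) : l 1 w = w := by rw [map_one]; rfl

section torus

variable [Fintype F] [DecidableEq F]

/-- the sum over the torus -/
noncomputable def nn (l : Matrix.SpecialLinearGroup (Fin 2) F →* (W ≃ₗ[ZMod 2] W)) (w : W) : W :=
  ∑ s : Fˣ, l (tor s) w

theorem nn_add (v w : W) : nn l (v + w) = nn l v + nn l w := by
  unfold nn
  rw [← Finset.sum_add_distrib]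
  exact Finset.sum_congr rfl fun s _ => map_add _ _ _

/-- an element normalising the torus commutes with the sum -/
theorem nn_comm {A : Matrix.SpecialLinearGroup (Fin 2) F} {f : Fˣ ≃ Fˣ} (hf : ∀ s, A * tor s = tor (f s) * A) (w : W) :
    l A (nn l w) = nn l (l A w) := by
  unfold nn
  rw [map_sum]
  refine Fintype.sum_equiv f _ _ fun s => ?_
  rw [← l_mul, hf, l_mul]

theorem tor_comm (s : Fˣ) (w : W) : l (tor s) (nn l w) = nn l (l (tor s) w) :=
  nn_comm (f := Equiv.refl _) (fun t => by rw [tor_mul, tor_mul, mul_comm]; rfl) w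

/-- the Weyl element -/
abbrev wl : Matrix.SpecialLinearGroup (Fin 2) F := wm 1 one_ne_zero

theorem wl_comm (w : W) : l wl (nn l w) = nn l (l wl w) := by
  refine nn_comm (f := Equiv.inv Fˣ) (fun t => ?_) w
  refine ext_ent ?_ ?_ ?_ ?_ <;> simp [ent_mul]

end torus

namespace Sl

variable (h : Sl l e)
include h

variable [Fintype F] [DecidableEq F] (hν : ∃ ν : F, ν ≠ 0 ∧ ν ≠ 1)

include hν in
theorem e_nn (w : W) : e (nn l w) = 0 := by
  unfold nn
  rw [map_sum]
  have h1 : ∀ s : Fˣ, e (l (tor s) w) = ![(s : F) * e w 0, (s : F)⁻¹ * e w 1] := fun s => by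
    rw [h.act, ap_tor]
  simp only [h1]
  apply ext2
  · rw [Finset.sum_apply]
    exact sum_units_mul hν _
  · rw [Finset.sum_apply]
    exact sum_units_inv_mul hν _

variable [CharP F 2]

theorem nn_of {w : W} (hw : e w = 0) : nn l w = w := by
  unfold nn
  have h1 : ∀ s : Fˣ, l (tor s) w = w := fun s => h.tr _ _ hw
  simp only [h1]
  rw [Finset.sum_const, Finset.card_univ]
  exact odd_nsmul odd_units w

/-- `w + N w` depends only on `e w` -/
theorem wd {v w : W} (he : e v = e w) : v + nn l v = w + nn l w := by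
  have h1 : e (v - w) = 0 := by rw [map_sub, he, sub_self]
  have h2 := h.nn_of h1
  have h3 : nn l v = nn l (v - w) + nn l w := by rw [← nn_add, sub_add_cancel]
  rw [h3, h2]
  linear_combination (norm := module) addself v - addself w

end Sl

/-- **the section** `F² → W` given by the torus -/
noncomputable def sg (h : Sl l e) [Fintype F] [DecidableEq F] [CharP F 2] : (Fin 2 → F) →+ W :=
  AddMonoidHom.mk' (fun x => (h.sur x).choose + nn l (h.sur x).choose) fun x y => by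
    have h1 := (h.sur x).choose_spec
    have h2 := (h.sur y).choose_spec
    have h3 := (h.sur (x + y)).choose_spec
    have h4 : (h.sur (x + y)).choose + nn l (h.sur (x + y)).choose =
        ((h.sur x).choose + (h.sur y).choose) + nn l ((h.sur x).choose + (h.sur y).choose) :=
      h.wd (by rw [h3, map_add, h1, h2])
    change (h.sur (x + y)).choose + nn l (h.sur (x + y)).choose = _
    rw [h4, nn_add]
    abel

namespace Sl

variable [Fintype F] [DecidableEq F] [CharP F 2] (h : Sl l e)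

theorem sg_e (w : W) : sg h (e w) = w + nn l w :=
  h.wd (h.sur (e w)).choose_spec

theorem dec (w : W) : w = sg h (e w) + nn l w := by
  rw [sg_e]
  linear_combination (norm := module) -addself (nn l w)

include h in
theorem exists_dec (w : W) (hν : ∃ ν : F, ν ≠ 0 ∧ ν ≠ 1) : ∃ c, e c = 0 ∧ w = sg h (e w) + c :=
  ⟨nn l w, h.e_nn hν w, h.dec w⟩

variable (hν : ∃ ν : F, ν ≠ 0 ∧ ν ≠ 1)
include hν

theorem e_sg (x : Fin 2 → F) : e (sg h x) = x := by
  obtain ⟨w, rfl⟩ := h.sur x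
  rw [sg_e, map_add, h.e_nn hν, add_zero]

theorem nn_sg (x : Fin 2 → F) : nn l (sg h x) = 0 := by
  obtain ⟨w, rfl⟩ := h.sur x
  rw [sg_e, nn_add, h.nn_of (h.e_nn hν w), addself]

omit hν in
theorem tor_sg (s : Fˣ) (x : Fin 2 → F) : l (tor s) (sg h x) = sg h (ap (tor s) x) := by
  obtain ⟨w, rfl⟩ := h.sur x
  rw [sg_e, map_add, tor_comm, ← h.act, sg_e]

omit hν in
theorem wl_sg (x : Fin 2 → F) : l wl (sg h x) = sg h (ap wl x) := by
  obtain ⟨w, rfl⟩ := h.sur x
  rw [sg_e, map_add, wl_comm, ← h.act, sg_e]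

/-- the cocycle -/
theorem e_co (A : Matrix.SpecialLinearGroup (Fin 2) F) (x : Fin 2 → F) :
    e (l A (sg h x) + sg h (ap A x)) = 0 := by
  rw [map_add, h.act, h.e_sg hν, h.e_sg hν]
  funext i
  rw [Pi.add_apply]
  exact CharTwo.add_self_eq_zero _

theorem co_mul (A B : Matrix.SpecialLinearGroup (Fin 2) F) (x : Fin 2 → F) :
    l (A * B) (sg h x) + sg h (ap (A * B) x) =
      (l A (sg h (ap B x)) + sg h (ap A (ap B x))) + (l B (sg h x) + sg h (ap B x)) := by
  have h1 := h.tr A _ (h.e_co hν B x)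
  rw [map_add] at h1
  rw [l_mul, ap_mul]
  linear_combination (norm := module) h1 - addself (l A (sg h (ap B x)))

omit hν in
theorem co_one (x : Fin 2 → F) : l 1 (sg h x) + sg h (ap 1 x) = 0 := by
  rw [l_one, ap_one, addself]

omit hν in
theorem co_add (A : Matrix.SpecialLinearGroup (Fin 2) F) (x z : Fin 2 → F) :
    l A (sg h (x + z)) + sg h (ap A (x + z)) =
      (l A (sg h x) + sg h (ap A x)) + (l A (sg h z) + sg h (ap A z)) := by
  rw [ap_add, map_add, map_add, map_add]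
  abel

theorem co_up_zero (b x0 : F) : l (up b) (sg h ![x0, 0]) + sg h (ap (up b) ![x0, 0]) = 0 := by
  by_cases hb : b = 0
  · rw [hb, up_zero]
    exact h.co_one _
  have h1 := h.co_mul hν (up b) (up b) ![0, x0 / b]
  rw [up_mul, CharTwo.add_self_eq_zero, up_zero, co_one, ← co_add] at h1
  have h2 : ap (up b) ![0, x0 / b] + ![0, x0 / b] = ![x0, 0] := by
    apply ext2
    · rw [Pi.add_apply, ap_zero']
      simp [mul_div_cancel₀, hb]
    · rw [Pi.add_apply, ap_one']
      simp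
      exact CharTwo.add_self_eq_zero _
  rw [h2] at h1
  exact h1.symm

/-- **the map `τ`** -/
noncomputable def ta (h : Sl l e) (hν : ∃ ν : F, ν ≠ 0 ∧ ν ≠ 1) : F →+ W :=
  AddMonoidHom.mk' (fun s => l (up s) (sg h ![0, 1]) + sg h (ap (up s) ![0, 1])) fun s s' => by
    have h1 := h.co_mul hν (up s) (up s') ![0, 1]
    have h2 : ap (up s') ![0, 1] = ![s', 0] + ![0, 1] := by
      apply ext2
      · rw [Pi.add_apply, ap_zero']; simp
      · rw [Pi.add_apply, ap_one']; simp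
    rw [up_mul, h2, co_add, co_up_zero _ hν, zero_add] at h1
    change l (up (s + s')) (sg h ![0, 1]) + sg h (ap (up (s + s')) ![0, 1]) = _
    rw [h1, h2]

theorem e_ta (s : F) : e (ta h hν s) = 0 := h.e_co hν _ _

omit hν in
theorem ap_tor_up (t : Fˣ) (b : F) (x : Fin 2 → F) :
    ap (up ((t : F) ^ 2 * b)) (ap (tor t) x) = ap (tor t) (ap (up b) x) := by
  rw [← ap_mul, ← ap_mul, ← dg_up]

theorem co_tor (t : Fˣ) (b : F) (x : Fin 2 → F) :
    l (up ((t : F) ^ 2 * b)) (sg h (ap (tor t) x)) + sg h (ap (up ((t : F) ^ 2 * b)) (ap (tor t) x)) =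
      l (up b) (sg h x) + sg h (ap (up b) x) := by
  have h1 := h.tr (tor t) _ (h.e_co hν (up b) x)
  rw [map_add, tor_sg, ← ap_tor_up, ← l_mul, dg_up, l_mul, tor_sg] at h1
  exact h1

/-- **the action of the root group** -/
theorem up_sg (b : F) (x : Fin 2 → F) :
    l (up b) (sg h x) = sg h x + sg h ![b * x 1, 0] + ta h hν (b * x 1 ^ 2) := by
  have h1 : x = ![x 0, 0] + ![0, x 1] := by
    apply ext2 <;> simp
  have h2 : ap (up b) x = x + ![b * x 1, 0] := by
    apply ext2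
    · rw [Pi.add_apply, ap_zero']; simp
    · rw [Pi.add_apply, ap_one']; simp
  have h3 : l (up b) (sg h x) + sg h (ap (up b) x) = ta h hν (b * x 1 ^ 2) := by
    rw [h1, co_add, co_up_zero _ hν, zero_add]
    by_cases h4 : x 1 = 0
    · rw [h4]
      have h5 : (![0, 0] : Fin 2 → F) = 0 := by apply ext2 <;> simp
      have h6 : ap (up b) (0 : Fin 2 → F) = 0 := by
        apply ext2
        · rw [ap_zero']; simp
        · rw [ap_one']; simp
      simp [h5, h6]
    · have h5 := h.co_tor hν (Units.mk0 (x 1) h4) b ![0, x 1]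
      have h6 : ap (tor (Units.mk0 (x 1) h4)) ![0, x 1] = ![0, 1] := by
        rw [ap_tor]
        apply ext2
        · simp
        · simp [h4]
      rw [h6, Units.val_mk0] at h5
      rw [← h5]
      change ta h hν (x 1 ^ 2 * b) = _
      congr 1
      simp [mul_comm]
  rw [h2, map_add] at h3
  linear_combination (norm := module) h3 - addself (sg h x) - addself (sg h ![b * x 1, 0])

/-- the root group, on any vector -/
theorem up_ap (b : F) (w : W) :
    l (up b) w = w + sg h ![b * e w 1, 0] + ta h hν (b * e w 1 ^ 2) := by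
  obtain ⟨c, hc, hw⟩ := h.exists_dec w hν
  have h1 : l (up b) w = l (up b) (sg h (e w)) + c := by
    nth_rewrite 1 [hw]
    rw [map_add, h.tr _ c hc]
  rw [h1, h.up_sg hν]
  nth_rewrite 4 [hw]
  abel

end Sl

end Cfsg.Agent.Omega.FOne.AT

end

section


/-!
# THEOREM AT (bb OMEGA #19477, helper201), steps (2)-(5)

* `Cor` : `SL₂(F) ≤ H` acts on `W`, natural modulo the fixed vectors, `V ≤ W` an invariant subspace covering `F²`;
* `QQ` : the pairs `(η, ψ)` such that some `g ∈ H` is `1 + η` modulo `y`, `v ↦ v + ψ(e v) y` on `V`;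
* `exists_f` : one `r ∈ H`, trivial on `V` modulo `y` and moving a vector of the section, gives `f : W → F` and
  `χ : F → 𝔽₂` with `w ↦ w + (0, t f(w)) + χ(t w₀) y` in `H` for all `t`;
* `Cor.false` : contradiction with the non-existence of over-offenders in `O`.
-/

set_option autoImplicit false
set_option linter.unusedSectionVars false

namespace Cfsg.Agent.Omega.FOne.AT

open Cfsg.Agent.Lib.SL2Mat Cfsg.Agent.Omega.NatPair
open Cfsg.Agent.Omega.FOne.Tvw (Base addself z2 eq_of_add_eq_zero' ap_inv inv_ap)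

variable {W : Type*} [AddCommGroup W] [Module (ZMod 2) W] {F : Type*} [Field F]

/-- `{0, y}` -/
def Yy (y : W) : AddSubgroup W where
  carrier := {w | w = 0 ∨ w = y}
  zero_mem' := Or.inl rfl
  add_mem' := by
    rintro a b (rfl | rfl) (rfl | rfl)
    · left; rw [add_zero]
    · right; rw [zero_add]
    · right; rw [add_zero]
    · left; exact addself _
  neg_mem' := by
    rintro a (rfl | rfl)
    · left; rw [neg_zero]
    · right; exact neg_eq_of_add_eq_zero_left (addself _)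

theorem mem_Yy {y w : W} : w ∈ Yy y ↔ w = 0 ∨ w = y := Iff.rfl

theorem y_mem (y : W) : y ∈ Yy y := Or.inr rfl

theorem smul_y_mem (y : W) (c : ZMod 2) : c • y ∈ Yy y := by
  rcases z2 c with rfl | rfl
  · rw [zero_smul]; exact (Yy y).zero_mem
  · rw [one_smul]; exact y_mem y

theorem mod_iff {y a b : W} : a + b ∈ Yy y ↔ a = b ∨ a = b + y := by
  rw [mem_Yy]
  constructor
  · rintro (h | h)
    · exact Or.inl (eq_of_add_eq_zero' h)
    · right
      linear_combination (norm := module) h - addself b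
  · rintro (rfl | rfl)
    · exact Or.inl (addself _)
    · right
      linear_combination (norm := module) addself b

/-- the hypotheses of THEOREM AT on `SL₂(F) ≤ H` and `V` -/
structure Cor (H : Subgroup (W ≃ₗ[ZMod 2] W)) (y : W) (V : Submodule (ZMod 2) W)
    (l : Matrix.SpecialLinearGroup (Fin 2) F →* (W ≃ₗ[ZMod 2] W)) (e : W →+ (Fin 2 → F)) : Prop extends Sl l e where
  base : Base H y
  lH : ∀ A, l A ∈ H
  ey : e y = 0
  yV : y ∈ V
  lV : ∀ A, ∀ v ∈ V, l A v ∈ V
  surV : ∀ x, ∃ v ∈ V, e v = x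

variable {H : Subgroup (W ≃ₗ[ZMod 2] W)} {y : W} {V : Submodule (ZMod 2) W}
  {l : Matrix.SpecialLinearGroup (Fin 2) F →* (W ≃ₗ[ZMod 2] W)} {e : W →+ (Fin 2 → F)}

theorem Base.fixY {y : W} (b : Base H y) {g : W ≃ₗ[ZMod 2] W} (hg : g ∈ H) {a : W} (ha : a ∈ Yy y) : g a = a := by
  rcases ha with rfl | rfl
  · exact map_zero g
  · exact b.fix g hg

theorem Base.one_of {y : W} (b : Base H y) {g : W ≃ₗ[ZMod 2] W} (hg : g ∈ H) (h : ∀ w, g w + w ∈ Yy y) : g = 1 :=
  b.faith g hg fun w => mod_iff.1 (h w)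

theorem Base.eq_of {y : W} (b : Base H y) {g g' : W ≃ₗ[ZMod 2] W} (hg : g ∈ H) (hg' : g' ∈ H)
    (h : ∀ w, g w + g' w ∈ Yy y) : g = g' := by
  have h1 : g * g'⁻¹ = 1 := Base.one_of b (H.mul_mem hg (H.inv_mem hg')) fun w => by
    have h2 := h (g'⁻¹ w)
    rw [ap_inv] at h2
    exact h2
  exact mul_inv_eq_one.1 h1

/-- `ap A` as an additive map -/
def apH (A : Matrix.SpecialLinearGroup (Fin 2) F) : (Fin 2 → F) →+ (Fin 2 → F) :=
  AddMonoidHom.mk' (ap A) (ap_add A)

theorem apH_apply (A : Matrix.SpecialLinearGroup (Fin 2) F) (x : Fin 2 → F) : apH A x = ap A x := rfl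

/-- `g ∈ GL(W)` as an additive map -/
def lin (g : W ≃ₗ[ZMod 2] W) : W →+ W := (g : W →ₗ[ZMod 2] W).toAddMonoidHom

theorem lin_apply (g : W ≃ₗ[ZMod 2] W) (w : W) : lin g w = g w := rfl

namespace Cor

variable (h : Cor H y V l e)

/-- the pairs `(η, ψ)` such that some `g ∈ H` is `1 + η` modulo `y`, `v ↦ v + ψ(e v) y` on `V` -/
def QQ : AddSubmonoid ((W →+ W) × ((Fin 2 → F) →+ ZMod 2)) where
  carrier := {p | (∀ w, p.1 w ∈ V) ∧ (∀ v ∈ V, p.1 v ∈ Yy y) ∧
    ∃ g ∈ H, (∀ w, g w + w + p.1 w ∈ Yy y) ∧ ∀ v ∈ V, g v = v + p.2 (e v) • y}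
  zero_mem' := by
    refine ⟨fun w => V.zero_mem, fun v _ => (Yy y).zero_mem, 1, H.one_mem, fun w => ?_, fun v _ => ?_⟩
    · change w + w + 0 ∈ Yy y
      rw [add_zero, addself]
      exact (Yy y).zero_mem
    · change v = v + (0 : ZMod 2) • y
      rw [zero_smul, add_zero]
  add_mem' := by
    rintro ⟨η, ψ⟩ ⟨η', ψ'⟩ ⟨h1, h2, g, hg, h3, h4⟩ ⟨h1', h2', g', hg', h3', h4'⟩
    refine ⟨fun w => V.add_mem (h1 w) (h1' w), fun v hv => (Yy y).add_mem (h2 v hv) (h2' v hv),
      g * g', H.mul_mem hg hg', fun w => ?_, fun v hv => ?_⟩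
    · change g (g' w) + w + (η w + η' w) ∈ Yy y
      have a1 := h3 w
      have a2 := h3' w
      have a3 := h3 (η' w)
      have a4 := h2 _ (h1' w)
      have a5 : g (g' w + w + η' w) = g' w + w + η' w := Base.fixY h.base hg a2
      rw [map_add, map_add] at a5
      simp only at a1 a2 a3 a4 a5
      have a6 : g (g' w) + w + (η w + η' w) =
          (g' w + w + η' w) + (g w + w + η w) + (g (η' w) + η' w + η (η' w)) + η (η' w) := by
        linear_combination (norm := module) a5 - addself (g w) - addself (g (η' w)) - addself (η (η' w))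
      rw [a6]
      exact (Yy y).add_mem ((Yy y).add_mem ((Yy y).add_mem a2 a1) a3) a4
    · change g (g' v) = v + (ψ (e v) + ψ' (e v)) • y
      have a1 := h4 v hv
      have a2 := h4' v hv
      simp only at a1 a2
      rw [a2, map_add, map_smul, h.base.fix g hg, a1, add_smul]
      abel

theorem mem_QQ {η : W →+ W} {ψ : (Fin 2 → F) →+ ZMod 2} : (η, ψ) ∈ h.QQ ↔ (∀ w, η w ∈ V) ∧ (∀ v ∈ V, η v ∈ Yy y) ∧
    ∃ g ∈ H, (∀ w, g w + w + η w ∈ Yy y) ∧ ∀ v ∈ V, g v = v + ψ (e v) • y := Iff.rfl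

/-- faithfulness -/
theorem ps_zero {η : W →+ W} {ψ : (Fin 2 → F) →+ ZMod 2} (hm : (η, ψ) ∈ h.QQ) (h0 : ∀ w, η w ∈ Yy y) : ψ = 0 := by
  obtain ⟨-, -, g, hg, h3, h4⟩ := h.mem_QQ.1 hm
  have h5 : g = 1 := Base.one_of h.base hg fun w => by
    have := (Yy y).add_mem (h3 w) (h0 w)
    rwa [add_assoc, addself, add_zero] at this
  refine AddMonoidHom.ext fun x => ?_
  obtain ⟨v, hv, rfl⟩ := h.surV x
  have h6 := h4 v hv
  rw [h5] at h6
  change v = v + ψ (e v) • y at h6
  rcases z2 (ψ (e v)) with h7 | h7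
  · exact h7
  · rw [h7, one_smul] at h6
    exact absurd (left_eq_add.1 h6) h.base.y0

section sec

variable [Fintype F] [DecidableEq F] [CharP F 2]

theorem sg_mem (x : Fin 2 → F) : sg h.toSl x ∈ V := by
  obtain ⟨v, hv, rfl⟩ := h.surV x
  rw [Sl.sg_e]
  exact V.add_mem hv (V.sum_mem fun s _ => h.lV _ v hv)

include h in
/-- `[W, L] ≤ V` -/
theorem comm_mem (A : Matrix.SpecialLinearGroup (Fin 2) F) (hν : ∃ ν : F, ν ≠ 0 ∧ ν ≠ 1) (w : W) : l A w + w ∈ V := by
  obtain ⟨c, hc, hw⟩ := h.toSl.exists_dec w hν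
  have h1 : l A w + w = l A (sg h.toSl (e w)) + sg h.toSl (e w) := by
    have h2 : l A w = l A (sg h.toSl (e w)) + c := by
      nth_rewrite 1 [hw]
      rw [map_add, h.tr _ c hc]
    have h3 : l A w + w = l A (sg h.toSl (e w)) + c + (sg h.toSl (e w) + c) := by
      rw [h2]; nth_rewrite 2 [hw]; rfl
    rw [h3]
    linear_combination (norm := module) addself c
  rw [h1]
  exact V.add_mem (h.lV _ _ (h.sg_mem _)) (h.sg_mem _)

variable (hν : ∃ ν : F, ν ≠ 0 ∧ ν ≠ 1)
include hν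

/-- conjugation by `l A` -/
theorem conj_mem {η : W →+ W} {ψ : (Fin 2 → F) →+ ZMod 2} (hm : (η, ψ) ∈ h.QQ)
    (A : Matrix.SpecialLinearGroup (Fin 2) F) : ((lin (l A)).comp η, ψ.comp (apH A⁻¹)) ∈ h.QQ := by
  obtain ⟨h1, h2, g, hg, h3, h4⟩ := h.mem_QQ.1 hm
  have hA := h.lH A
  refine h.mem_QQ.2 ⟨fun w => h.lV A _ (h1 w), fun v hv => ?_, l A * g * (l A)⁻¹,
    H.mul_mem (H.mul_mem hA hg) (H.inv_mem hA), fun w => ?_, fun v hv => ?_⟩
  · change l A (η v) ∈ Yy y
    rw [Base.fixY h.base hA (h2 v hv)]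
    exact h2 v hv
  · change l A (g ((l A)⁻¹ w)) + w + l A (η w) ∈ Yy y
    set u := (l A)⁻¹ w with hu
    have hw : l A u = w := ap_inv _ _
    have e1 : u + w ∈ V := by
      have := h.comm_mem A⁻¹ hν w
      rwa [map_inv] at this
    have e2 := h2 _ e1
    rw [map_add] at e2
    have e3 := (Yy y).add_mem (h3 u) e2
    have e4 := Base.fixY h.base hA e3
    have e5 : l A (g u) + w + l A (η w) = g u + u + η u + (η u + η w) := by
      rw [map_add, map_add, map_add, map_add, hw] at e4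
      linear_combination (norm := module) e4 - addself (l A (η u))
    rw [e5]; exact e3
  · change l A (g ((l A)⁻¹ v)) = v + ψ (ap A⁻¹ (e v)) • y
    have e1 : (l A)⁻¹ v ∈ V := by
      have := h.lV A⁻¹ v hv
      rwa [map_inv] at this
    have e2 : e ((l A)⁻¹ v) = ap A⁻¹ (e v) := by
      have := h.act A⁻¹ v
      rwa [map_inv] at this
    rw [h4 _ e1, e2, map_add, ap_inv, map_smul, h.base.fix _ hA]

/-- **purification** -/
theorem pur {η : W →+ W} {ψ : (Fin 2 → F) →+ ZMod 2} (hm : (η, ψ) ∈ h.QQ) :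
    ((sg h.toSl).comp (e.comp η), ψ) ∈ h.QQ := by
  have h1 : (η, ψ) + ∑ s : Fˣ, ((lin (l (tor s))).comp η, ψ.comp (apH (tor s)⁻¹)) ∈ h.QQ :=
    h.QQ.add_mem hm (h.QQ.sum_mem fun s _ => h.conj_mem hν hm _)
  convert h1 using 1
  refine Prod.ext ?_ ?_
  · rw [Prod.fst_add, Prod.fst_sum]
    ext w
    rw [AddMonoidHom.add_apply, AddMonoidHom.finsetSum_apply]
    exact h.toSl.sg_e (η w)
  · rw [Prod.snd_add, Prod.snd_sum]
    refine AddMonoidHom.ext fun x => ?_
    rw [AddMonoidHom.add_apply, AddMonoidHom.finsetSum_apply]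
    have h2 : ∑ s : Fˣ, (ψ.comp (apH (tor s)⁻¹)) x = 0 := by
      have h3 : ∀ s : Fˣ, (ψ.comp (apH (tor s)⁻¹)) x = ψ (ap (tor s⁻¹) x) := by
        intro s
        have h4 : (tor s)⁻¹ = tor s⁻¹ := by
          refine inv_eq_of_mul_eq_one_right ?_
          rw [tor_mul, mul_inv_cancel]
          refine ext_ent ?_ ?_ ?_ ?_ <;> simp
        rw [h4]; rfl
      simp only [h3]
      rw [← map_sum]
      have h5 : ∑ s : Fˣ, ap (tor s⁻¹) x = 0 := by
        simp only [ap_tor]
        apply ext2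
        · rw [Finset.sum_apply]
          refine Eq.trans ?_ (sum_units_inv_mul hν (x 0))
          exact Finset.sum_congr rfl fun s _ => by simp
        · rw [Finset.sum_apply]
          refine Eq.trans ?_ (sum_units_mul hν (x 1))
          exact Finset.sum_congr rfl fun s _ => by simp
      rw [h5, map_zero]
    rw [h2, add_zero]

/-- the pairs `(γ, ψ)`, `γ : W → F²` -/
def PP (h : Cor H y V l e) (γ : W →+ (Fin 2 → F)) (ψ : (Fin 2 → F) →+ ZMod 2) : Prop :=
  ((sg h.toSl).comp γ, ψ) ∈ h.QQ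

omit hν in
theorem PP.add {γ γ' : W →+ (Fin 2 → F)} {ψ ψ' : (Fin 2 → F) →+ ZMod 2} (h1 : h.PP γ ψ) (h2 : h.PP γ' ψ') :
    h.PP (γ + γ') (ψ + ψ') := by
  have h3 := h.QQ.add_mem h1 h2
  unfold PP
  convert h3 using 1
  refine Prod.ext ?_ rfl
  ext w
  exact map_add (sg h.toSl) _ _

theorem PP.ap {γ : W →+ (Fin 2 → F)} {ψ : (Fin 2 → F) →+ ZMod 2} (h1 : h.PP γ ψ)
    (A : Matrix.SpecialLinearGroup (Fin 2) F) : h.PP ((apH A).comp γ) (ψ.comp (apH A⁻¹)) := by
  have h2 := h.pur hν (h.conj_mem hν h1 A)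
  unfold PP
  convert h2 using 1
  refine Prod.ext ?_ rfl
  ext w
  change sg h.toSl (NatPair.ap A (γ w)) = sg h.toSl (e (l A (sg h.toSl (γ w))))
  rw [h.act, h.toSl.e_sg hν]

end sec

end Cor

end Cfsg.Agent.Omega.FOne.AT

end

section


/-!
# (F1'), the minimal parabolic case: lifts are unique

`e : W → E` additive, `e y = 0`, `ker e` invariant under `H`.  An element of `H` which is trivial on `W / ker e` and on
`ker e / y` is `1`, because `O₂(H) = 1`.
-/

set_option autoImplicit false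
set_option linter.unusedSectionVars false

namespace Cfsg.Agent.Omega.FOne.Act

open Cfsg.Agent.Omega.FOne.Tvw (Base addself z2 eq_of_add_eq_zero' ap_inv inv_ap)
open Cfsg.Agent.Omega.FOne.AT

variable {W : Type*} [AddCommGroup W] [Module (ZMod 2) W] {E : Type*} [AddCommGroup E]

/-- `e : W → E`, trivial on `y`, with `H`-invariant kernel -/
structure Ek (H : Subgroup (W ≃ₗ[ZMod 2] W)) (y : W) (e : W →+ E) : Prop where
  base : Base H y
  ey : e y = 0
  kinv : ∀ h ∈ H, ∀ w, e w = 0 → e (h w) = 0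

variable {H : Subgroup (W ≃ₗ[ZMod 2] W)} {y : W} {e : W →+ E}

theorem Base.ap_Yy {y : W} (b : Base H y) {g : W ≃ₗ[ZMod 2] W} (hg : g ∈ H) {a : W} (ha : a ∈ Yy y) : g a ∈ Yy y := by
  rw [Base.fixY b hg ha]; exact ha

namespace Ek

variable (h : Ek H y e)
include h

theorem e_Yy {a : W} (ha : a ∈ Yy y) : e a = 0 := by
  rcases ha with rfl | rfl
  · exact map_zero e
  · exact h.ey

/-- the elements of `H`, trivial on `W / ker e` and on `ker e / y` -/
theorem uniq {g : W ≃ₗ[ZMod 2] W} (hg : g ∈ H) (h1 : ∀ w, e (g w) = e w)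
    (h2 : ∀ w, e w = 0 → g w + w ∈ Yy y) : g = 1 := by
  have d0 : ∀ k : W ≃ₗ[ZMod 2] W, (∀ w, e (k w) = e w) → ∀ w, e (k w + w) = 0 := by
    intro k hk w
    rw [map_add, hk, ← map_add, addself, map_zero]
  let N : Subgroup (W ≃ₗ[ZMod 2] W) :=
    { carrier := {k | k ∈ H ∧ (∀ w, e (k w) = e w) ∧ ∀ w, e w = 0 → k w + w ∈ Yy y}
      one_mem' := ⟨H.one_mem, fun w => rfl, fun w _ => by
        change w + w ∈ Yy y
        rw [addself]; exact (Yy y).zero_mem⟩
      mul_mem' := by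
        rintro a b ⟨ha, ha1, ha2⟩ ⟨hb, hb1, hb2⟩
        refine ⟨H.mul_mem ha hb, fun w => ?_, fun w hw => ?_⟩
        · change e (a (b w)) = e w
          rw [ha1, hb1]
        · change a (b w) + w ∈ Yy y
          have h3 := ha2 (b w) (by rw [hb1, hw])
          have h4 := (Yy y).add_mem h3 (hb2 w hw)
          have h5 : a (b w) + w = a (b w) + b w + (b w + w) := by
            linear_combination (norm := module) -addself (b w)
          rw [h5]; exact h4
      inv_mem' := by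
        rintro a ⟨ha, ha1, ha2⟩
        refine ⟨H.inv_mem ha, fun w => ?_, fun w hw => ?_⟩
        · have := ha1 (a⁻¹ w)
          rw [ap_inv] at this
          exact this.symm
        · have h3 := ha1 (a⁻¹ w)
          rw [ap_inv, hw] at h3
          have h4 := ha2 _ h3.symm
          rw [ap_inv, add_comm] at h4
          exact h4 }
  have hN2 : IsPGroup 2 N := by
    rintro ⟨k, hk, hk1, hk2⟩
    refine ⟨1, Subtype.ext ?_⟩
    change k ^ 2 ^ 1 = 1
    rw [pow_one, pow_two]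
    refine Base.one_of h.base (H.mul_mem hk hk) fun w => ?_
    change k (k w) + w ∈ Yy y
    have h3 := hk2 _ (d0 k hk1 w)
    rw [map_add] at h3
    have h4 : k (k w) + w = k (k w) + k w + (k w + w) := by
      linear_combination (norm := module) -addself (k w)
    rw [h4]; exact h3
  have hNn : ∀ x ∈ H, ∀ n ∈ N, x * n * x⁻¹ ∈ N := by
    rintro x hx n ⟨hn, hn1, hn2⟩
    refine ⟨H.mul_mem (H.mul_mem hx hn) (H.inv_mem hx), fun w => ?_, fun w hw => ?_⟩
    · change e (x (n (x⁻¹ w))) = e w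
      have h3 := h.kinv x hx _ (d0 n hn1 (x⁻¹ w))
      rw [map_add, ap_inv, map_add] at h3
      have h4 : e w + e w = 0 := by rw [← map_add, addself, map_zero]
      have h5 : e (x (n (x⁻¹ w))) = e (x (n (x⁻¹ w))) + e w - e w := by abel
      rw [h5, h3, zero_sub]
      exact neg_eq_of_add_eq_zero_left h4
    · change x (n (x⁻¹ w)) + w ∈ Yy y
      have h3 := Base.ap_Yy h.base hx (hn2 _ (h.kinv x⁻¹ (H.inv_mem hx) w hw))
      rw [map_add, ap_inv] at h3
      exact h3
  have hbot := h.base.core N (fun k hk => hk.1) hNn hN2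
  have : g ∈ N := ⟨hg, h1, h2⟩
  rw [hbot] at this
  exact Subgroup.mem_bot.1 this

theorem uniq2 {g g' : W ≃ₗ[ZMod 2] W} (hg : g ∈ H) (hg' : g' ∈ H) (h1 : ∀ w, e (g w) = e (g' w))
    (h2 : ∀ w, e w = 0 → g w + w ∈ Yy y) (h2' : ∀ w, e w = 0 → g' w + w ∈ Yy y) : g = g' := by
  have h3 : g * g'⁻¹ = 1 := h.uniq (H.mul_mem hg (H.inv_mem hg')) (fun w => by
    change e (g (g'⁻¹ w)) = e w
    rw [h1, ap_inv]) fun w hw => by
      change g (g'⁻¹ w) + w ∈ Yy y
      have h4 := h.kinv g'⁻¹ (H.inv_mem hg') w hw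
      have h5 := h2 _ h4
      have h6 := h2' _ h4
      rw [ap_inv] at h6
      have h7 : g (g'⁻¹ w) + w = g (g'⁻¹ w) + g'⁻¹ w + (w + g'⁻¹ w) := by
        linear_combination (norm := module) -addself (g'⁻¹ w)
      rw [h7]
      exact (Yy y).add_mem h5 h6
  exact mul_inv_eq_one.1 h3

end Ek

end Cfsg.Agent.Omega.FOne.Act

end

section


/-!
# (F1'), the minimal parabolic case: `(W / y) / C(O²(H))` is a sum of natural `SL₂(F)`-modules

Then `T` does not swap `θ`, `θ + y`.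
-/

set_option autoImplicit false
set_option linter.unusedSectionVars false

namespace Cfsg.Agent.Omega.FOne.Act

open Cfsg.Agent.Lib.SL2Mat Cfsg.Agent.Omega.NatPair
open Cfsg.Agent.Omega.FOne.Tvw (Base addself z2 eq_of_add_eq_zero' ap_inv inv_ap)
open Cfsg.Agent.Omega.FOne.AT

variable {W : Type*} [AddCommGroup W] [Module (ZMod 2) W] {F : Type*} [Field F] {k : ℕ}

/-- the conclusion of the FF theorem in the natural case, for `W / y` -/
structure NatW (H : Subgroup (W ≃ₗ[ZMod 2] W)) (y : W) (T : Subgroup (W ≃ₗ[ZMod 2] W))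
    (e : W →+ (Fin k → Fin 2 → F)) : Prop extends Ek H y e where
  TH : T ≤ H
  surj : ∀ x, ∃ w, e w = x
  lift : ∀ A : Fin k → Matrix.SpecialLinearGroup (Fin 2) F, ∃ g ∈ H, (∀ w i, e (g w) i = ap (A i) (e w i)) ∧
    ∀ w, e w = 0 → g w + w ∈ Yy y
  norm : ∀ g ∈ H, ∀ h ∈ H, ∀ A : Fin k → Matrix.SpecialLinearGroup (Fin 2) F,
    (∀ w i, e (h w) i = ap (A i) (e w i)) →
      ∃ B : Fin k → Matrix.SpecialLinearGroup (Fin 2) F, ∀ w i, e ((g * h * g⁻¹) w) i = ap (B i) (e w i)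
  line : ∀ t ∈ T, ∃ σ : Equiv.Perm (Fin k), ∀ w i, e (t w) (σ i) 1 = 0 ↔ e w i 1 = 0
  unip : ∀ b : Fin k → F, ∃ t ∈ T, (∀ w i, e (t w) i = ap (up (b i)) (e w i)) ∧ ∀ w, e w = 0 → t w + w ∈ Yy y

/-- commutators fix more -/
theorem comm_fix {X Y : W ≃ₗ[ZMod 2] W} {w : W} {C : AddSubgroup W} (hX : ∀ c ∈ C, X c = c) (hY : ∀ c ∈ C, Y c = c)
    (h1 : X w + w ∈ C) (h2 : Y w + w ∈ C) : (X * Y * X⁻¹ * Y⁻¹) w = w := by
  have key : ∀ {Z : W ≃ₗ[ZMod 2] W}, (∀ c ∈ C, Z c = c) → Z w + w ∈ C → Z⁻¹ w = w + (Z w + w) := by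
    intro Z hZ hz
    have h3 : Z (w + (Z w + w)) = w := by
      rw [map_add, hZ _ hz]
      linear_combination (norm := module) addself (Z w)
    have h4 := congrArg (fun v => Z⁻¹ v) h3
    simp only [inv_ap] at h4
    exact h4.symm
  obtain ⟨α, hα⟩ : ∃ α, α = X w + w := ⟨_, rfl⟩
  obtain ⟨β, hβ⟩ : ∃ β, β = Y w + w := ⟨_, rfl⟩
  have eX : X w = w + α := by rw [hα]; linear_combination (norm := module) -addself w
  have eY : Y w = w + β := by rw [hβ]; linear_combination (norm := module) -addself w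
  have iX := key hX h1
  have iY := key hY h2
  rw [← hα] at iX h1
  rw [← hβ] at iY h2
  have fX : X⁻¹ β = β := by
    have := congrArg (fun v => X⁻¹ v) (hX β h2)
    simp only [inv_ap] at this
    exact this.symm
  change X (Y (X⁻¹ (Y⁻¹ w))) = w
  have e1 : Y (w + α + β) = w + α := by
    rw [map_add, map_add, eY, hY α h1, hY β h2]
    linear_combination (norm := module) addself β
  rw [iY, map_add, iX, fX, e1, map_add, eX, hX α h1]
  linear_combination (norm := module) addself α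

/-- `|F| > 2`: every element of `SL₂(F)` is a product of four commutators -/
theorem up_comm [CharP F 2] {ν : F} (h0 : ν ≠ 0) (h1 : ν ≠ 1) (b : F) :
    up b = dg ν h0 * up (b / (ν ^ 2 - 1)) * (dg ν h0)⁻¹ * (up (b / (ν ^ 2 - 1)))⁻¹ := by
  have hn : ν ^ 2 - 1 ≠ 0 := by
    intro h
    have h2 : (ν + 1) * (ν + 1) = 0 := by
      have h3 := CharTwo.add_self_eq_zero ν
      have h4 := CharTwo.add_self_eq_zero (1 : F)
      linear_combination h + h3 + h4
    have h5 := mul_self_eq_zero.1 h2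
    exact h1 (CharTwo.add_eq_zero.1 h5)
  rw [dg_up, mul_inv_cancel_right, up_inv, up_mul]
  congr 1
  field_simp
  ring

theorem lo_comm [CharP F 2] {ν : F} (h0 : ν ≠ 0) (h1 : ν ≠ 1) (b : F) :
    ∃ X Y : Matrix.SpecialLinearGroup (Fin 2) F, lo b = X * Y * X⁻¹ * Y⁻¹ := by
  have h2 : lo b = wm 1 one_ne_zero * up (-b) * (wm 1 one_ne_zero)⁻¹ := by
    rw [wm_up, mul_inv_cancel_right]
    congr 1
    simp
  refine ⟨wm 1 one_ne_zero * dg ν h0 * (wm 1 one_ne_zero)⁻¹,
    wm 1 one_ne_zero * up (-b / (ν ^ 2 - 1)) * (wm 1 one_ne_zero)⁻¹, ?_⟩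
  rw [h2, up_comm h0 h1 (-b)]
  group

namespace NatW

variable {H : Subgroup (W ≃ₗ[ZMod 2] W)} {y : W} {T : Subgroup (W ≃ₗ[ZMod 2] W)} {e : W →+ (Fin k → Fin 2 → F)}
variable (h : NatW H y T e)

/-- the lift of `SL₂(F)^k` -/
noncomputable def L : (Fin k → Matrix.SpecialLinearGroup (Fin 2) F) →* (W ≃ₗ[ZMod 2] W) :=
  MonoidHom.mk' (fun A => (h.lift A).choose) fun A B => by
    obtain ⟨h1, h2, h3⟩ := (h.lift (A * B)).choose_spec
    obtain ⟨a1, a2, a3⟩ := (h.lift A).choose_spec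
    obtain ⟨b1, b2, b3⟩ := (h.lift B).choose_spec
    refine h.toEk.uniq2 h1 (H.mul_mem a1 b1) (fun w => ?_) h3 fun w hw => ?_
    · funext i
      change _ = e ((h.lift A).choose ((h.lift B).choose w)) i
      rw [h2, a2, b2, Pi.mul_apply, ap_mul]
    · change (h.lift A).choose ((h.lift B).choose w) + w ∈ Yy y
      have h4 := b3 w hw
      have h5 := a3 ((h.lift B).choose w) (h.kinv _ b1 w hw)
      have h6 : (h.lift A).choose ((h.lift B).choose w) + w =
          (h.lift A).choose ((h.lift B).choose w) + (h.lift B).choose w + ((h.lift B).choose w + w) := by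
        linear_combination (norm := module) -addself ((h.lift B).choose w)
      rw [h6]
      exact (Yy y).add_mem h5 h4

theorem L_mem (A : Fin k → Matrix.SpecialLinearGroup (Fin 2) F) : h.L A ∈ H := (h.lift A).choose_spec.1

theorem L_e (A : Fin k → Matrix.SpecialLinearGroup (Fin 2) F) (w : W) (i : Fin k) :
    e (h.L A w) i = ap (A i) (e w i) := (h.lift A).choose_spec.2.1 w i

theorem L_Yy (A : Fin k → Matrix.SpecialLinearGroup (Fin 2) F) {w : W} (hw : e w = 0) : h.L A w + w ∈ Yy y :=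
  (h.lift A).choose_spec.2.2 w hw

/-- a lift is `L` -/
theorem eq_L {g : W ≃ₗ[ZMod 2] W} (hg : g ∈ H) {A : Fin k → Matrix.SpecialLinearGroup (Fin 2) F}
    (h1 : ∀ w i, e (g w) i = ap (A i) (e w i)) (h2 : ∀ w, e w = 0 → g w + w ∈ Yy y) : g = h.L A :=
  h.toEk.uniq2 hg (h.L_mem A) (fun w => funext fun i => by rw [h1, L_e]) h2 fun w hw => h.L_Yy A hw

/-- conjugates of `L A` -/
theorem conj_L {g : W ≃ₗ[ZMod 2] W} (hg : g ∈ H) (A : Fin k → Matrix.SpecialLinearGroup (Fin 2) F) :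
    ∃ B, g * h.L A * g⁻¹ = h.L B := by
  obtain ⟨B, hB⟩ := h.norm g hg _ (h.L_mem A) A (h.L_e A)
  refine ⟨B, h.eq_L (H.mul_mem (H.mul_mem hg (h.L_mem A)) (H.inv_mem hg)) hB fun w hw => ?_⟩
  change g (h.L A (g⁻¹ w)) + w ∈ Yy y
  have h1 := Base.ap_Yy h.base hg (h.L_Yy A (h.kinv g⁻¹ (H.inv_mem hg) w hw))
  rw [map_add, ap_inv] at h1
  exact h1

theorem L_inj : Function.Injective h.L := by
  intro A B hAB
  funext i
  have key : ∀ x : Fin 2 → F, ap (A i) x = ap (B i) x := by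
    intro x
    obtain ⟨w, hw⟩ := h.surj fun _ => x
    have h1 := h.L_e A w i
    rw [hAB, h.L_e B w i, hw] at h1
    exact h1.symm
  have h0 := key ![1, 0]
  have h1 := key ![0, 1]
  have a0 := congrFun h0 0
  have a1 := congrFun h0 1
  have b0 := congrFun h1 0
  have b1 := congrFun h1 1
  simp only [ap_zero', ap_one', Matrix.cons_val_zero, Matrix.cons_val_one, mul_one, mul_zero, add_zero,
    zero_add] at a0 a1 b0 b1
  exact ext_ent a0 b0 a1 b1

/-- `|F| > 2`: the lift is trivial on the kernel of `e` -/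
theorem tr0 [CharP F 2] (hν : ∃ ν : F, ν ≠ 0 ∧ ν ≠ 1) (A : Fin k → Matrix.SpecialLinearGroup (Fin 2) F) {w : W}
    (hw : e w = 0) : h.L A w = w := by
  obtain ⟨ν, h0, h1⟩ := hν
  have hC : ∀ A, ∀ c ∈ Yy y, h.L A c = c := fun A c hc => Base.fixY h.base (h.L_mem A) hc
  have hcomm : ∀ X Y : Fin k → Matrix.SpecialLinearGroup (Fin 2) F, h.L (X * Y * X⁻¹ * Y⁻¹) w = w := by
    intro X Y
    rw [map_mul, map_mul, map_mul, map_inv, map_inv]
    exact comm_fix (hC X) (hC Y) (h.L_Yy X hw) (h.L_Yy Y hw)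
  have hup : ∀ b : Fin k → F, h.L (fun i => up (b i)) w = w := by
    intro b
    have := hcomm (fun _ => dg ν h0) (fun i => up (b i / (ν ^ 2 - 1)))
    have e1 : (fun i => up (b i)) = (fun _ : Fin k => dg ν h0) * (fun i => up (b i / (ν ^ 2 - 1))) *
        (fun _ : Fin k => dg ν h0)⁻¹ * (fun i => up (b i / (ν ^ 2 - 1)))⁻¹ := by
      funext i
      exact up_comm h0 h1 (b i)
    rw [e1]; exact this
  have hlo : ∀ b : Fin k → F, h.L (fun i => lo (b i)) w = w := by
    intro b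
    choose X Y hXY using fun i => lo_comm h0 h1 (b i)
    have e1 : (fun i => lo (b i)) = X * Y * X⁻¹ * Y⁻¹ := by
      funext i
      exact hXY i
    rw [e1]; exact hcomm X Y
  choose a b c d hA using fun i => exists_up_lo (A i)
  have e1 : A = (fun i => up (a i)) * (fun i => lo (b i)) * (fun i => up (c i)) * fun i => lo (d i) := by
    funext i
    exact hA i
  rw [e1, map_mul, map_mul, map_mul]
  change h.L _ (h.L _ (h.L _ (h.L _ w))) = w
  rw [hlo, hup, hlo, hup]

/-- the kernel of `e` as an additive group -/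
theorem L_one_block [CharP F 2] (hν : ∃ ν : F, ν ≠ 0 ∧ ν ≠ 1) (i : Fin k) (A : Matrix.SpecialLinearGroup (Fin 2) F)
    {w : W} (hw : e w i = 0) : h.L (Pi.mulSingle i A) w = w := by
  classical
  have hν' := hν
  obtain ⟨ν, h0, h1⟩ := hν
  have hC : ∀ A, ∀ c ∈ e.ker, h.L A c = c := fun A c hc => h.tr0 hν' A (AddMonoidHom.mem_ker.1 hc)
  have hm : ∀ A, h.L (Pi.mulSingle i A) w + w ∈ e.ker := by
    intro A
    rw [AddMonoidHom.mem_ker, map_add]
    funext j
    rw [Pi.add_apply, h.L_e]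
    by_cases hj : j = i
    · subst hj
      rw [hw]
      simp only [Pi.mulSingle_eq_same, Pi.zero_apply, add_zero]
      apply ext2
      · rw [ap_zero']; simp
      · rw [ap_one']; simp
    · rw [Pi.mulSingle_eq_of_ne hj, ap_one]
      funext x
      rw [Pi.add_apply]
      exact CharTwo.add_self_eq_zero _
  have hcomm : ∀ X Y : Matrix.SpecialLinearGroup (Fin 2) F, h.L (Pi.mulSingle i (X * Y * X⁻¹ * Y⁻¹)) w = w := by
    intro X Y
    rw [Pi.mulSingle_mul, Pi.mulSingle_mul, Pi.mulSingle_mul, Pi.mulSingle_inv, Pi.mulSingle_inv, map_mul, map_mul,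
      map_mul, map_inv, map_inv]
    exact comm_fix (hC _) (hC _) (hm X) (hm Y)
  have hup : ∀ b : F, h.L (Pi.mulSingle i (up b)) w = w := fun b => by
    rw [up_comm h0 h1 b]; exact hcomm _ _
  have hlo : ∀ b : F, h.L (Pi.mulSingle i (lo b)) w = w := fun b => by
    obtain ⟨X, Y, hXY⟩ := lo_comm h0 h1 b
    rw [hXY]; exact hcomm _ _
  obtain ⟨a, b, c, d, rfl⟩ := exists_up_lo A
  rw [Pi.mulSingle_mul, Pi.mulSingle_mul, Pi.mulSingle_mul, map_mul, map_mul, map_mul]
  change h.L _ (h.L _ (h.L _ (h.L _ w))) = w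
  rw [hlo, hup, hlo, hup]

/-- the `i`-th factor -/
noncomputable def l (i : Fin k) : Matrix.SpecialLinearGroup (Fin 2) F →* (W ≃ₗ[ZMod 2] W) :=
  h.L.comp (MonoidHom.mulSingle (fun _ => Matrix.SpecialLinearGroup (Fin 2) F) i)

theorem l_apply (i : Fin k) (A : Matrix.SpecialLinearGroup (Fin 2) F) : h.l i A = h.L (Pi.mulSingle i A) := rfl

theorem sl [CharP F 2] (hν : ∃ ν : F, ν ≠ 0 ∧ ν ≠ 1) (i : Fin k) :
    Sl (h.l i) ((Pi.evalAddMonoidHom (fun _ : Fin k => Fin 2 → F) i).comp e) where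
  act := by
    intro A w
    change e (h.L (Pi.mulSingle i A) w) i = ap A (e w i)
    rw [h.L_e, Pi.mulSingle_eq_same]
  tr := fun A w hw => h.L_one_block hν i A hw
  sur := by
    intro x
    obtain ⟨w, hw⟩ := h.surj fun _ => x
    exact ⟨w, by change e w i = x; rw [hw]⟩

end NatW

end Cfsg.Agent.Omega.FOne.Act

end

section


/-!
# (F1'), the minimal parabolic case: the natural case is impossible
-/

set_option autoImplicit false
set_option linter.unusedSectionVars false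

namespace Cfsg.Agent.Omega.FOne.Act

open Subgroup
open Cfsg.Agent.Lib.SL2Mat Cfsg.Agent.Omega.NatPair
open Cfsg.Agent.Omega.FOne.Tvw (Base addself z2 eq_of_add_eq_zero' ap_inv inv_ap)
open Cfsg.Agent.Omega.FOne.AT

/-- `T ∩ N` is a Sylow 2-subgroup of the normal subgroup `N`. -/
theorem not_dvd_inf {G : Type*} [Group G] [Finite G] {H T N : Subgroup G} (hTH : T ≤ H) (hTS : ¬ 2 ∣ T.relIndex H)
    (hNH : N ≤ H) (hN : H ≤ normalizer (N : Set G)) : ¬ 2 ∣ (T ⊓ N).relIndex N := by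
  rw [inf_comm]
  have hn : (N.subgroupOf H).Normal := normal_subgroupOf_of_le_normalizer hN
  have h1 : N.relIndex (N ⊔ T) = N.relIndex T := by
    have h := Subgroup.relIndex_sup_left (K := N.subgroupOf H) (H := T.subgroupOf H)
    rw [← Subgroup.subgroupOf_sup hNH hTH, Subgroup.relIndex_subgroupOf (sup_le hNH hTH),
      Subgroup.relIndex_subgroupOf hTH] at h
    exact h
  have h2 := Subgroup.relIndex_mul_relIndex (N ⊓ T) N (N ⊔ T) inf_le_left le_sup_left
  have h3 := Subgroup.relIndex_mul_relIndex (N ⊓ T) T (N ⊔ T) inf_le_right le_sup_right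
  have h4 : (N ⊓ T).relIndex T = N.relIndex T := Subgroup.inf_relIndex_right N T
  rw [h1] at h2
  rw [h4, ← h2, mul_comm] at h3
  have h5 : T.relIndex (N ⊔ T) = (N ⊓ T).relIndex N :=
    Nat.eq_of_mul_eq_mul_right (Nat.pos_of_ne_zero (Subgroup.index_ne_zero_of_finite
      (H := N.subgroupOf T))) h3
  intro h
  have h6 := Subgroup.relIndex_mul_relIndex T (N ⊔ T) H le_sup_right (sup_le hNH hTH)
  exact hTS (h6 ▸ (h5 ▸ h : 2 ∣ T.relIndex (N ⊔ T)).mul_right _)

theorem normalizer_of {G : Type*} [Group G] {H N : Subgroup G} (h : ∀ g ∈ H, ∀ n ∈ N, g * n * g⁻¹ ∈ N) :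
    H ≤ normalizer (N : Set G) := by
  intro g hg
  rw [mem_normalizer_iff]
  intro n
  constructor
  · exact h g hg n
  · intro hn
    have := h g⁻¹ (H.inv_mem hg) _ hn
    have e1 : g⁻¹ * (g * n * g⁻¹) * g⁻¹⁻¹ = n := by group
    rwa [e1] at this

section field

variable {F : Type*} [Field F]

theorem one_of_pow [CharP F 2] : ∀ (k : ℕ) (a : F), a ^ 2 ^ k = 1 → a = 1 := by
  intro k
  induction k with
  | zero => intro a ha; simpa using ha
  | succ k ih =>
    intro a ha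
    have h6 : (a ^ 2 ^ k + 1) * (a ^ 2 ^ k + 1) = 0 := by
      have h7 : a ^ 2 ^ (k + 1) = a ^ 2 ^ k * a ^ 2 ^ k := by rw [pow_succ, pow_mul, sq]
      have h8 := CharTwo.add_self_eq_zero (a ^ 2 ^ k)
      have h9 := CharTwo.add_self_eq_zero (1 : F)
      rw [h7] at ha
      linear_combination ha + h8 + h9
    exact ih a (CharTwo.add_eq_zero.1 (mul_self_eq_zero.1 h6))

theorem ent_pow {A : Matrix.SpecialLinearGroup (Fin 2) F} (h : ent A 1 0 = 0) :
    ∀ n : ℕ, ent (A ^ n) 0 0 = ent A 0 0 ^ n ∧ ent (A ^ n) 1 0 = 0 := by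
  intro n
  induction n with
  | zero => exact ⟨by rw [pow_zero, pow_zero]; rfl, by rw [pow_zero]; rfl⟩
  | succ n ih =>
    rw [pow_succ, ent_mul, ent_mul, ih.1, ih.2, h]
    constructor
    · rw [mul_zero, add_zero, pow_succ]
    · ring

/-- a 2-element preserving the line is upper unitriangular -/
theorem eq_up [CharP F 2] {A : Matrix.SpecialLinearGroup (Fin 2) F} (h : ent A 1 0 = 0) {n : ℕ}
    (hn : A ^ 2 ^ n = 1) : A = up (ent A 0 1) := by
  have h1 := (ent_pow h (2 ^ n)).1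
  rw [hn, ent_one_00] at h1
  have h2 := one_of_pow n _ h1.symm
  have h3 := det_eq A
  rw [h, h2] at h3
  refine ext_ent ?_ ?_ ?_ ?_
  · rw [up_00, h2]
  · rw [up_01]
  · rw [up_10, h]
  · rw [up_11]; linear_combination h3

end field

variable {W : Type*} [AddCommGroup W] [Module (ZMod 2) W] {F : Type*} [Field F] {k : ℕ}

namespace NatW

variable {H : Subgroup (W ≃ₗ[ZMod 2] W)} {y : W} {T : Subgroup (W ≃ₗ[ZMod 2] W)} {e : W →+ (Fin k → Fin 2 → F)}
variable (h : NatW H y T e)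
include h

/-- `|F| > 2` -/
theorem false_big [Finite W] [Fintype F] [DecidableEq F] [CharP F 2] (hν : ∃ ν : F, ν ≠ 0 ∧ ν ≠ 1) (hk : 0 < k)
    (two : IsPGroup 2 T) (syl : ¬ 2 ∣ T.relIndex H) (fix : ∀ w, (∀ t ∈ T, t w = w) → w = 0 ∨ w = y) {θ : W}
    (Tθ : ∀ t ∈ T, t θ + θ ∈ Yy y)
    (gen : ∀ U : Submodule (ZMod 2) W, y ∈ U → (∀ x ∈ H, x θ ∈ U) → U = ⊤) : False := by
  classical
  have hfin : Finite (W ≃ₗ[ZMod 2] W) := DFunLike.finite _
  set K : Subgroup (W ≃ₗ[ZMod 2] W) := h.L.range with hKd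
  have hKH : K ≤ H := by
    rintro _ ⟨A, rfl⟩
    exact h.L_mem A
  have hKn : ∀ g ∈ H, ∀ x ∈ K, g * x * g⁻¹ ∈ K := by
    rintro g hg _ ⟨A, rfl⟩
    obtain ⟨B, hB⟩ := h.conj_L hg A
    exact ⟨B, hB.symm⟩
  have hodd := not_dvd_inf h.TH syl hKH (normalizer_of hKn)
  have eT : ∀ t ∈ T, e (t θ) = e θ := fun t ht => by
    have h1 := h.toEk.e_Yy (Tθ t ht)
    rw [map_add] at h1
    funext i x
    have h2 := congrFun (congrFun h1 i) x
    exact CharTwo.add_eq_zero.1 h2
  -- `θ` is on the lines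
  have hθ1 : ∀ i, e θ i 1 = 0 := by
    intro i
    obtain ⟨t, ht, h1, -⟩ := h.unip fun _ => 1
    have h2 := h1 θ i
    rw [eT t ht] at h2
    have h3 := congrFun h2 0
    rw [ap_zero', up_00, up_01] at h3
    linear_combination -h3
  -- the upper unitriangular elements fix `θ`
  have hU : ∀ b : Fin k → F, h.L (fun i => up (b i)) θ = θ := by
    intro b
    let S : Subgroup (Fin k → Matrix.SpecialLinearGroup (Fin 2) F) :=
      (MulAction.stabilizer (W ≃ₗ[ZMod 2] W) θ).comap h.L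
    have hS : ∀ A, A ∈ S ↔ h.L A θ = θ := fun A => Iff.rfl
    rw [← hS]
    refine Subgroup.pi_mem_of_mulSingle_mem _ fun i => ?_
    rw [hS]
    have h1 := (h.sl hν i).up_ap hν (b i) θ
    change h.L (Pi.mulSingle i (up (b i))) θ = _ at h1
    rw [h1]
    have e1 : ((Pi.evalAddMonoidHom (fun _ : Fin k => Fin 2 → F) i).comp e) θ 1 = 0 := hθ1 i
    rw [e1]
    have e2 : (![b i * 0, 0] : Fin 2 → F) = 0 := by
      apply ext2
      · simp
      · simp
    rw [e2, map_zero, add_zero]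
    have e3 : b i * (0 : F) ^ 2 = 0 := by ring
    rw [e3, map_zero, add_zero]
  have hTK : ∀ t ∈ T ⊓ K, t • θ = θ := by
    rintro _ ⟨htT, A, rfl⟩
    -- `A i` preserves the line
    have hA : ∀ i, ent (A i) 1 0 = 0 := by
      intro i
      obtain ⟨σ, hσ⟩ := h.line _ htT
      obtain ⟨w, hw⟩ := h.surj fun _ => ![1, 0]
      obtain ⟨j, rfl⟩ := σ.surjective i
      have h1 := (hσ w j).2 (by rw [hw]; rfl)
      rw [h.L_e, ap_one', hw] at h1
      simpa using h1
    obtain ⟨n, hn⟩ := two ⟨_, htT⟩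
    have hn' : h.L (A ^ 2 ^ n) = h.L 1 := by
      rw [map_pow, map_one]
      exact congrArg Subtype.val hn
    have hAn := h.L_inj hn'
    have e1 : A = fun i => up (ent (A i) 0 1) := by
      funext i
      exact eq_up (hA i) (by
        have := congrFun hAn i
        rwa [Pi.pow_apply] at this)
    rw [e1]
    exact hU _
  have hfix : ∀ w : W, (∀ t ∈ T, t • w = w) → ∀ x ∈ K, x • w = w := by
    intro w hw x hx
    rcases fix w hw with rfl | rfl
    · exact map_zero x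
    · exact h.base.fix x (hKH hx)
  have hfin := Tools.OddFix.odd_fix (G := W ≃ₗ[ZMod 2] W) (W := W) addself two
    (fun t ht x hx => hKn t (h.TH ht) x hx) hodd hfix θ hTK
  have heθ : e θ = 0 := by
    funext i
    have h1 := hfin (h.L fun _ => lo 1) ⟨_, rfl⟩
    change h.L (fun _ => lo 1) θ = θ at h1
    have h2 := h.L_e (fun _ => lo 1) θ i
    rw [h1] at h2
    have h3 := congrFun h2 1
    rw [ap_one', lo_10, lo_11] at h3
    apply ext2
    · change e θ i 0 = 0
      linear_combination -h3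
    · exact hθ1 i
  -- contradiction
  let U : Submodule (ZMod 2) W :=
    { carrier := {w | e w = 0}
      zero_mem' := map_zero e
      add_mem' := by
        intro a b ha hb
        change e (a + b) = 0
        change e a = 0 at ha
        change e b = 0 at hb
        rw [map_add, ha, hb, add_zero]
      smul_mem' := by
        intro c w hw
        rcases z2 c with rfl | rfl
        · rw [zero_smul]; exact map_zero e
        · rw [one_smul]; exact hw }
  have hUt := gen U h.ey fun x hx => h.kinv x hx θ heθ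
  obtain ⟨w, hw⟩ := h.surj fun _ => ![1, 0]
  have h4 : w ∈ U := by rw [hUt]; exact Submodule.mem_top
  have h5 : e w = 0 := h4
  rw [hw] at h5
  have h6 := congrFun (congrFun h5 ⟨0, hk⟩) 0
  exact one_ne_zero h6

end NatW

end Cfsg.Agent.Omega.FOne.Act

end

section


/-!
# (F1'), the minimal parabolic case: the natural case with `|F| = 2` is impossible
-/

set_option autoImplicit false
set_option linter.unusedSectionVars false

namespace Cfsg.Agent.Omega.FOne.Act

open Subgroup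
open Cfsg.Agent.Lib.SL2Mat Cfsg.Agent.Omega.NatPair
open Cfsg.Agent.Omega.FOne.Tvw (Base addself z2 eq_of_add_eq_zero' ap_inv inv_ap)
open Cfsg.Agent.Omega.FOne.AT

section field

variable {F : Type*} [Field F] [CharP F 2]

/-- the element of order 3 -/
def c3 (F : Type*) [Field F] : Matrix.SpecialLinearGroup (Fin 2) F := up 1 * lo 1

theorem ent_c3 : ent (c3 F) 0 0 = 0 ∧ ent (c3 F) 0 1 = 1 ∧ ent (c3 F) 1 0 = 1 ∧ ent (c3 F) 1 1 = 1 := by
  have h2 : (1 : F) + 1 = 0 := CharTwo.add_self_eq_zero 1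
  refine ⟨?_, ?_, ?_, ?_⟩ <;> rw [c3, ent_mul] <;> simp [h2]

theorem ent_c32 : ent (c3 F * c3 F) 0 0 = 1 ∧ ent (c3 F * c3 F) 0 1 = 1 ∧ ent (c3 F * c3 F) 1 0 = 1 ∧
    ent (c3 F * c3 F) 1 1 = 0 := by
  have h2 : (1 : F) + 1 = 0 := CharTwo.add_self_eq_zero 1
  obtain ⟨h00, h01, h10, h11⟩ := ent_c3 (F := F)
  refine ⟨?_, ?_, ?_, ?_⟩ <;> rw [ent_mul] <;> simp only [h00, h01, h10, h11] <;> simp [h2]

theorem c3_cube : c3 F * c3 F * c3 F = 1 := by
  have h2 : (1 : F) + 1 = 0 := CharTwo.add_self_eq_zero 1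
  obtain ⟨h00, h01, h10, h11⟩ := ent_c3 (F := F)
  obtain ⟨k00, k01, k10, k11⟩ := ent_c32 (F := F)
  refine ext_ent ?_ ?_ ?_ ?_
  · rw [ent_mul, k00, k01, h00, h10, ent_one_00]; simp
  · rw [ent_mul, k00, k01, h01, h11, ent_one_01]; simp [h2]
  · rw [ent_mul, k10, k11, h00, h10, ent_one_10]; simp
  · rw [ent_mul, k10, k11, h01, h11, ent_one_11]; simp

theorem cube_mem (hF : ∀ x : F, x = 0 ∨ x = 1) {x : Matrix.SpecialLinearGroup (Fin 2) F} (hx : x * x * x = 1) :
    x ∈ zpowers (c3 F) := by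
  have h2 : (1 : F) + 1 = 0 := CharTwo.add_self_eq_zero 1
  have hne : (0 : F) ≠ 1 := zero_ne_one
  have hd := det_eq x
  obtain ⟨h00, h01, h10, h11⟩ := ent_c3 (F := F)
  obtain ⟨k00, k01, k10, k11⟩ := ent_c32 (F := F)
  have m0 : (1 : Matrix.SpecialLinearGroup (Fin 2) F) ∈ zpowers (c3 F) := one_mem _
  have m1 : c3 F ∈ zpowers (c3 F) := mem_zpowers _
  have m2 : c3 F * c3 F ∈ zpowers (c3 F) := mul_mem m1 m1
  -- involutions
  have hinv : x * x = 1 → x ∈ zpowers (c3 F) := by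
    intro h
    rw [h, one_mul] at hx
    rw [hx]; exact m0
  have neg1 : (-1 : F) = 1 := by linear_combination -h2
  have e1 : ent x 0 0 = 0 → ent x 0 1 = 1 → ent x 1 0 = 1 → ent x 1 1 = 1 → x ∈ zpowers (c3 F) := by
    intro a0 b0 c0 d0
    have : x = c3 F := ext_ent (a0.trans h00.symm) (b0.trans h01.symm) (c0.trans h10.symm) (d0.trans h11.symm)
    rw [this]; exact m1
  have e2 : ent x 0 0 = 1 → ent x 0 1 = 1 → ent x 1 0 = 1 → ent x 1 1 = 0 → x ∈ zpowers (c3 F) := by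
    intro a0 b0 c0 d0
    have : x = c3 F * c3 F := ext_ent (a0.trans k00.symm) (b0.trans k01.symm) (c0.trans k10.symm) (d0.trans k11.symm)
    rw [this]; exact m2
  have e3 : ent x 0 0 * ent x 0 0 + ent x 0 1 * ent x 1 0 = 1 → ent x 0 0 * ent x 0 1 + ent x 0 1 * ent x 1 1 = 0 →
      ent x 1 0 * ent x 0 0 + ent x 1 1 * ent x 1 0 = 0 → ent x 1 0 * ent x 0 1 + ent x 1 1 * ent x 1 1 = 1 →
      x ∈ zpowers (c3 F) := by
    intro a0 b0 c0 d0
    refine hinv (ext_ent ?_ ?_ ?_ ?_)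
    · rw [ent_mul, a0, ent_one_00]
    · rw [ent_mul, b0, ent_one_01]
    · rw [ent_mul, c0, ent_one_10]
    · rw [ent_mul, d0, ent_one_11]
  rcases hF (ent x 0 0) with a0 | a0 <;> rcases hF (ent x 0 1) with b0 | b0 <;>
    rcases hF (ent x 1 0) with c0 | c0 <;> rcases hF (ent x 1 1) with d0 | d0 <;>
    rw [a0, b0, c0, d0] at hd e3 <;>
    simp [h2, neg1] at hd e3 <;>
    first
    | exact e3
    | exact e1 a0 b0 c0 d0
    | exact e2 a0 b0 c0 d0

theorem cube_of_mem {x : Matrix.SpecialLinearGroup (Fin 2) F} (hx : x ∈ zpowers (c3 F)) : x ^ 3 = 1 := by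
  obtain ⟨n, rfl⟩ := mem_zpowers_iff.1 hx
  rw [← zpow_natCast, ← zpow_mul, mul_comm, zpow_mul]
  have : (c3 F) ^ ((3 : ℕ) : ℤ) = 1 := by
    rw [zpow_natCast, pow_succ, pow_two]; exact c3_cube
  rw [this, one_zpow]

end field

variable {W : Type*} [AddCommGroup W] [Module (ZMod 2) W] {F : Type*} [Field F] {k : ℕ}

namespace NatW

variable {H : Subgroup (W ≃ₗ[ZMod 2] W)} {y : W} {T : Subgroup (W ≃ₗ[ZMod 2] W)} {e : W →+ (Fin k → Fin 2 → F)}
variable (h : NatW H y T e)
include h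

/-- `|F| = 2` -/
theorem false_two [Finite W] [CharP F 2] (hF : ∀ x : F, x = 0 ∨ x = 1) (hk : 0 < k)
    (two : IsPGroup 2 T) (fix : ∀ w, (∀ t ∈ T, t w = w) → w = 0 ∨ w = y) : False := by
  classical
  have hfin : Finite (W ≃ₗ[ZMod 2] W) := DFunLike.finite _
  set K : Subgroup (W ≃ₗ[ZMod 2] W) :=
    (Subgroup.pi Set.univ (fun _ : Fin k => zpowers (c3 F))).map h.L with hKd
  have hKH : K ≤ H := by
    rintro _ ⟨A, -, rfl⟩
    exact h.L_mem A
  have hcube : ∀ x ∈ K, x ^ 3 = 1 := by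
    rintro _ ⟨A, hA, rfl⟩
    rw [← map_pow]
    have : A ^ 3 = 1 := by
      funext i
      rw [Pi.pow_apply]
      exact cube_of_mem (hA i (Set.mem_univ i))
    rw [this, map_one]
  have hKn : ∀ g ∈ H, ∀ x ∈ K, g * x * g⁻¹ ∈ K := by
    rintro g hg x hx
    have h3 := hcube x hx
    obtain ⟨A, hA, rfl⟩ := hx
    obtain ⟨B, hB⟩ := h.conj_L hg A
    refine ⟨B, fun i _ => ?_, hB.symm⟩
    have h4 : (g * h.L A * g⁻¹) ^ 3 = 1 := by
      rw [conj_pow, h3, mul_one, mul_inv_cancel]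
    rw [hB, ← map_pow, ← map_one h.L] at h4
    have h5 := congrFun (h.L_inj h4) i
    rw [Pi.pow_apply, Pi.one_apply, pow_succ, pow_two] at h5
    exact cube_mem hF h5
  have hK3 : IsPGroup 3 K := fun x => ⟨1, Subtype.ext (by
    change (x : W ≃ₗ[ZMod 2] W) ^ 3 ^ 1 = 1
    rw [pow_one]; exact hcube x x.2)⟩
  have hodd : ¬ 2 ∣ (T ⊓ K).relIndex K := by
    intro h2
    obtain ⟨n, hn⟩ := IsPGroup.iff_card.1 hK3
    have h3 : (T ⊓ K).relIndex K ∣ Nat.card K := Subgroup.relIndex_dvd_card _ _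
    rw [hn] at h3
    have h4 := Nat.Prime.dvd_of_dvd_pow Nat.prime_two (h2.trans h3)
    omega
  have hTK : ∀ w : W, ∀ t ∈ T ⊓ K, t • w = w := by
    rintro w t ⟨htT, htK⟩
    obtain ⟨n, hn⟩ := two ⟨t, htT⟩
    have h2 : t ^ 2 ^ n = 1 := congrArg Subtype.val hn
    have h3 := hcube t htK
    have h4 : orderOf t ∣ 2 ^ n := orderOf_dvd_of_pow_eq_one h2
    have h5 : orderOf t ∣ 3 := orderOf_dvd_of_pow_eq_one h3
    have h6 : orderOf t ∣ Nat.gcd (2 ^ n) 3 := Nat.dvd_gcd h4 h5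
    have h7 : Nat.gcd (2 ^ n) 3 = 1 := Nat.Coprime.pow_left n (by norm_num)
    rw [h7, Nat.dvd_one, orderOf_eq_one_iff] at h6
    rw [h6]
    rfl
  have hfix : ∀ w : W, (∀ t ∈ T, t • w = w) → ∀ x ∈ K, x • w = w := by
    intro w hw x hx
    rcases fix w hw with rfl | rfl
    · exact map_zero x
    · exact h.base.fix x (hKH hx)
  obtain ⟨w, hw⟩ := h.surj fun _ => ![1, 0]
  have h1 := Tools.OddFix.odd_fix (G := W ≃ₗ[ZMod 2] W) (W := W) addself two
    (fun t ht x hx => hKn t (h.TH ht) x hx) hodd hfix w (hTK w) (h.L fun _ => c3 F)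
    ⟨_, fun i _ => mem_zpowers _, rfl⟩
  change h.L (fun _ => c3 F) w = w at h1
  have h2 := h.L_e (fun _ => c3 F) w ⟨0, hk⟩
  rw [h1, hw] at h2
  have h3 := congrFun h2 0
  rw [ap_zero', ent_c3.1, ent_c3.2.1] at h3
  simp at h3

end NatW

end Cfsg.Agent.Omega.FOne.Act

end

section


/-!
# (F1), the minimal parabolic case, over a group `R` of fixed vectors of any order: lifts are unique

`e : W → E` additive, `e = 0` on `R`, `ker e` invariant under `H`.  An element of `H` which is trivial on `W / ker e`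
and on `ker e / R` is `1`, because `O₂(H) = 1`.
-/

set_option autoImplicit false
set_option linter.unusedSectionVars false

namespace Cfsg.Agent.Omega.FOne.ActR

open Cfsg.Agent.Omega.FOne.Tvw (Base addself z2 eq_of_add_eq_zero' ap_inv inv_ap)
open Cfsg.Agent.Omega.FOne.AT

variable {W : Type*} [AddCommGroup W] [Module (ZMod 2) W] {E : Type*} [AddCommGroup E]

/-- The hypotheses on `(H, R)`: `H` fixes `R`, is faithful on `W / R`, `O₂(H) = 1`. -/
structure BaseR (H : Subgroup (W ≃ₗ[ZMod 2] W)) (R : AddSubgroup W) : Prop where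
  fix : ∀ h ∈ H, ∀ r ∈ R, h r = r
  faith : ∀ h ∈ H, (∀ w, h w + w ∈ R) → h = 1
  core : ∀ N : Subgroup (W ≃ₗ[ZMod 2] W), N ≤ H → (∀ h ∈ H, ∀ n ∈ N, h * n * h⁻¹ ∈ N) →
    IsPGroup 2 N → N = ⊥

/-- `e : W → E`, trivial on `R`, with `H`-invariant kernel -/
structure Ek (H : Subgroup (W ≃ₗ[ZMod 2] W)) (R : AddSubgroup W) (e : W →+ E) : Prop where
  base : BaseR H R
  eR : ∀ r ∈ R, e r = 0
  kinv : ∀ h ∈ H, ∀ w, e w = 0 → e (h w) = 0

variable {H : Subgroup (W ≃ₗ[ZMod 2] W)} {R : AddSubgroup W} {e : W →+ E}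

theorem BaseR.ap (b : BaseR H R) {g : W ≃ₗ[ZMod 2] W} (hg : g ∈ H) {a : W} (ha : a ∈ R) : g a ∈ R := by
  rw [b.fix g hg a ha]; exact ha

namespace Ek

variable (h : Ek H R e)
include h

theorem e_R {a : W} (ha : a ∈ R) : e a = 0 := h.eR a ha

/-- the elements of `H`, trivial on `W / ker e` and on `ker e / R` -/
theorem uniq {g : W ≃ₗ[ZMod 2] W} (hg : g ∈ H) (h1 : ∀ w, e (g w) = e w)
    (h2 : ∀ w, e w = 0 → g w + w ∈ R) : g = 1 := by
  have d0 : ∀ k : W ≃ₗ[ZMod 2] W, (∀ w, e (k w) = e w) → ∀ w, e (k w + w) = 0 := by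
    intro k hk w
    rw [map_add, hk, ← map_add, addself, map_zero]
  let N : Subgroup (W ≃ₗ[ZMod 2] W) :=
    { carrier := {k | k ∈ H ∧ (∀ w, e (k w) = e w) ∧ ∀ w, e w = 0 → k w + w ∈ R}
      one_mem' := ⟨H.one_mem, fun w => rfl, fun w _ => by
        change w + w ∈ R
        rw [addself]; exact R.zero_mem⟩
      mul_mem' := by
        rintro a b ⟨ha, ha1, ha2⟩ ⟨hb, hb1, hb2⟩
        refine ⟨H.mul_mem ha hb, fun w => ?_, fun w hw => ?_⟩
        · change e (a (b w)) = e w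
          rw [ha1, hb1]
        · change a (b w) + w ∈ R
          have h3 := ha2 (b w) (by rw [hb1, hw])
          have h4 := R.add_mem h3 (hb2 w hw)
          have h5 : a (b w) + w = a (b w) + b w + (b w + w) := by
            linear_combination (norm := module) -addself (b w)
          rw [h5]; exact h4
      inv_mem' := by
        rintro a ⟨ha, ha1, ha2⟩
        refine ⟨H.inv_mem ha, fun w => ?_, fun w hw => ?_⟩
        · have := ha1 (a⁻¹ w)
          rw [ap_inv] at this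
          exact this.symm
        · have h3 := ha1 (a⁻¹ w)
          rw [ap_inv, hw] at h3
          have h4 := ha2 _ h3.symm
          rw [ap_inv, add_comm] at h4
          exact h4 }
  have hN2 : IsPGroup 2 N := by
    rintro ⟨k, hk, hk1, hk2⟩
    refine ⟨1, Subtype.ext ?_⟩
    change k ^ 2 ^ 1 = 1
    rw [pow_one, pow_two]
    refine h.base.faith _ (H.mul_mem hk hk) fun w => ?_
    change k (k w) + w ∈ R
    have h3 := hk2 _ (d0 k hk1 w)
    rw [map_add] at h3
    have h4 : k (k w) + w = k (k w) + k w + (k w + w) := by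
      linear_combination (norm := module) -addself (k w)
    rw [h4]; exact h3
  have hNn : ∀ x ∈ H, ∀ n ∈ N, x * n * x⁻¹ ∈ N := by
    rintro x hx n ⟨hn, hn1, hn2⟩
    refine ⟨H.mul_mem (H.mul_mem hx hn) (H.inv_mem hx), fun w => ?_, fun w hw => ?_⟩
    · change e (x (n (x⁻¹ w))) = e w
      have h3 := h.kinv x hx _ (d0 n hn1 (x⁻¹ w))
      rw [map_add, ap_inv, map_add] at h3
      have h4 : e w + e w = 0 := by rw [← map_add, addself, map_zero]
      have h5 : e (x (n (x⁻¹ w))) = e (x (n (x⁻¹ w))) + e w - e w := by abel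
      rw [h5, h3, zero_sub]
      exact neg_eq_of_add_eq_zero_left h4
    · change x (n (x⁻¹ w)) + w ∈ R
      have h3 := h.base.ap hx (hn2 _ (h.kinv x⁻¹ (H.inv_mem hx) w hw))
      rw [map_add, ap_inv] at h3
      exact h3
  have hbot := h.base.core N (fun k hk => hk.1) hNn hN2
  have : g ∈ N := ⟨hg, h1, h2⟩
  rw [hbot] at this
  exact Subgroup.mem_bot.1 this

theorem uniq2 {g g' : W ≃ₗ[ZMod 2] W} (hg : g ∈ H) (hg' : g' ∈ H) (h1 : ∀ w, e (g w) = e (g' w))
    (h2 : ∀ w, e w = 0 → g w + w ∈ R) (h2' : ∀ w, e w = 0 → g' w + w ∈ R) : g = g' := by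
  have h3 : g * g'⁻¹ = 1 := h.uniq (H.mul_mem hg (H.inv_mem hg')) (fun w => by
    change e (g (g'⁻¹ w)) = e w
    rw [h1, ap_inv]) fun w hw => by
      change g (g'⁻¹ w) + w ∈ R
      have h4 := h.kinv g'⁻¹ (H.inv_mem hg') w hw
      have h5 := h2 _ h4
      have h6 := h2' _ h4
      rw [ap_inv] at h6
      have h7 : g (g'⁻¹ w) + w = g (g'⁻¹ w) + g'⁻¹ w + (w + g'⁻¹ w) := by
        linear_combination (norm := module) -addself (g'⁻¹ w)
      rw [h7]
      exact R.add_mem h5 h6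
  exact mul_inv_eq_one.1 h3

end Ek

end Cfsg.Agent.Omega.FOne.ActR

end

section


/-!
# (F1), the minimal parabolic case over `R`: `(W / R) / C(O²(H))` is a sum of natural `SL₂(F)`-modules
-/

set_option autoImplicit false
set_option linter.unusedSectionVars false

namespace Cfsg.Agent.Omega.FOne.ActR

open Cfsg.Agent.Lib.SL2Mat Cfsg.Agent.Omega.NatPair
open Cfsg.Agent.Omega.FOne.Tvw (Base addself z2 eq_of_add_eq_zero' ap_inv inv_ap)
open Cfsg.Agent.Omega.FOne.AT

variable {W : Type*} [AddCommGroup W] [Module (ZMod 2) W] {F : Type*} [Field F] {k : ℕ}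

/-- the conclusion of the FF theorem in the natural case, for `W / R` -/
structure NatW (H : Subgroup (W ≃ₗ[ZMod 2] W)) (R : AddSubgroup W) (T : Subgroup (W ≃ₗ[ZMod 2] W))
    (e : W →+ (Fin k → Fin 2 → F)) : Prop extends Ek H R e where
  TH : T ≤ H
  surj : ∀ x, ∃ w, e w = x
  lift : ∀ A : Fin k → Matrix.SpecialLinearGroup (Fin 2) F, ∃ g ∈ H, (∀ w i, e (g w) i = ap (A i) (e w i)) ∧
    ∀ w, e w = 0 → g w + w ∈ R
  norm : ∀ g ∈ H, ∀ h ∈ H, ∀ A : Fin k → Matrix.SpecialLinearGroup (Fin 2) F,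
    (∀ w i, e (h w) i = ap (A i) (e w i)) →
      ∃ B : Fin k → Matrix.SpecialLinearGroup (Fin 2) F, ∀ w i, e ((g * h * g⁻¹) w) i = ap (B i) (e w i)
  line : ∀ t ∈ T, ∃ σ : Equiv.Perm (Fin k), ∀ w i, e (t w) (σ i) 1 = 0 ↔ e w i 1 = 0
  unip : ∀ b : Fin k → F, ∃ t ∈ T, (∀ w i, e (t w) i = ap (up (b i)) (e w i)) ∧ ∀ w, e w = 0 → t w + w ∈ R

open Cfsg.Agent.Omega.FOne.Act (comm_fix up_comm lo_comm)

namespace NatW

variable {H : Subgroup (W ≃ₗ[ZMod 2] W)} {R : AddSubgroup W} {T : Subgroup (W ≃ₗ[ZMod 2] W)} {e : W →+ (Fin k → Fin 2 → F)}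
variable (h : NatW H R T e)

/-- the lift of `SL₂(F)^k` -/
noncomputable def L : (Fin k → Matrix.SpecialLinearGroup (Fin 2) F) →* (W ≃ₗ[ZMod 2] W) :=
  MonoidHom.mk' (fun A => (h.lift A).choose) fun A B => by
    obtain ⟨h1, h2, h3⟩ := (h.lift (A * B)).choose_spec
    obtain ⟨a1, a2, a3⟩ := (h.lift A).choose_spec
    obtain ⟨b1, b2, b3⟩ := (h.lift B).choose_spec
    refine h.toEk.uniq2 h1 (H.mul_mem a1 b1) (fun w => ?_) h3 fun w hw => ?_
    · funext i
      change _ = e ((h.lift A).choose ((h.lift B).choose w)) i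
      rw [h2, a2, b2, Pi.mul_apply, ap_mul]
    · change (h.lift A).choose ((h.lift B).choose w) + w ∈ R
      have h4 := b3 w hw
      have h5 := a3 ((h.lift B).choose w) (h.kinv _ b1 w hw)
      have h6 : (h.lift A).choose ((h.lift B).choose w) + w =
          (h.lift A).choose ((h.lift B).choose w) + (h.lift B).choose w + ((h.lift B).choose w + w) := by
        linear_combination (norm := module) -addself ((h.lift B).choose w)
      rw [h6]
      exact R.add_mem h5 h4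

theorem L_mem (A : Fin k → Matrix.SpecialLinearGroup (Fin 2) F) : h.L A ∈ H := (h.lift A).choose_spec.1

theorem L_e (A : Fin k → Matrix.SpecialLinearGroup (Fin 2) F) (w : W) (i : Fin k) :
    e (h.L A w) i = ap (A i) (e w i) := (h.lift A).choose_spec.2.1 w i

theorem L_R (A : Fin k → Matrix.SpecialLinearGroup (Fin 2) F) {w : W} (hw : e w = 0) : h.L A w + w ∈ R :=
  (h.lift A).choose_spec.2.2 w hw

/-- a lift is `L` -/
theorem eq_L {g : W ≃ₗ[ZMod 2] W} (hg : g ∈ H) {A : Fin k → Matrix.SpecialLinearGroup (Fin 2) F}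
    (h1 : ∀ w i, e (g w) i = ap (A i) (e w i)) (h2 : ∀ w, e w = 0 → g w + w ∈ R) : g = h.L A :=
  h.toEk.uniq2 hg (h.L_mem A) (fun w => funext fun i => by rw [h1, L_e]) h2 fun w hw => h.L_R A hw

/-- conjugates of `L A` -/
theorem conj_L {g : W ≃ₗ[ZMod 2] W} (hg : g ∈ H) (A : Fin k → Matrix.SpecialLinearGroup (Fin 2) F) :
    ∃ B, g * h.L A * g⁻¹ = h.L B := by
  obtain ⟨B, hB⟩ := h.norm g hg _ (h.L_mem A) A (h.L_e A)
  refine ⟨B, h.eq_L (H.mul_mem (H.mul_mem hg (h.L_mem A)) (H.inv_mem hg)) hB fun w hw => ?_⟩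
  change g (h.L A (g⁻¹ w)) + w ∈ R
  have h1 := h.base.ap hg (h.L_R A (h.kinv g⁻¹ (H.inv_mem hg) w hw))
  rw [map_add, ap_inv] at h1
  exact h1

theorem L_inj : Function.Injective h.L := by
  intro A B hAB
  funext i
  have key : ∀ x : Fin 2 → F, ap (A i) x = ap (B i) x := by
    intro x
    obtain ⟨w, hw⟩ := h.surj fun _ => x
    have h1 := h.L_e A w i
    rw [hAB, h.L_e B w i, hw] at h1
    exact h1.symm
  have h0 := key ![1, 0]
  have h1 := key ![0, 1]
  have a0 := congrFun h0 0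
  have a1 := congrFun h0 1
  have b0 := congrFun h1 0
  have b1 := congrFun h1 1
  simp only [ap_zero', ap_one', Matrix.cons_val_zero, Matrix.cons_val_one, mul_one, mul_zero, add_zero,
    zero_add] at a0 a1 b0 b1
  exact ext_ent a0 b0 a1 b1

/-- `|F| > 2`: the lift is trivial on the kernel of `e` -/
theorem tr0 [CharP F 2] (hν : ∃ ν : F, ν ≠ 0 ∧ ν ≠ 1) (A : Fin k → Matrix.SpecialLinearGroup (Fin 2) F) {w : W}
    (hw : e w = 0) : h.L A w = w := by
  obtain ⟨ν, h0, h1⟩ := hν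
  have hC : ∀ A, ∀ c ∈ R, h.L A c = c := fun A c hc => h.base.fix _ (h.L_mem A) c hc
  have hcomm : ∀ X Y : Fin k → Matrix.SpecialLinearGroup (Fin 2) F, h.L (X * Y * X⁻¹ * Y⁻¹) w = w := by
    intro X Y
    rw [map_mul, map_mul, map_mul, map_inv, map_inv]
    exact comm_fix (hC X) (hC Y) (h.L_R X hw) (h.L_R Y hw)
  have hup : ∀ b : Fin k → F, h.L (fun i => up (b i)) w = w := by
    intro b
    have := hcomm (fun _ => dg ν h0) (fun i => up (b i / (ν ^ 2 - 1)))
    have e1 : (fun i => up (b i)) = (fun _ : Fin k => dg ν h0) * (fun i => up (b i / (ν ^ 2 - 1))) *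
        (fun _ : Fin k => dg ν h0)⁻¹ * (fun i => up (b i / (ν ^ 2 - 1)))⁻¹ := by
      funext i
      exact up_comm h0 h1 (b i)
    rw [e1]; exact this
  have hlo : ∀ b : Fin k → F, h.L (fun i => lo (b i)) w = w := by
    intro b
    choose X Y hXY using fun i => lo_comm h0 h1 (b i)
    have e1 : (fun i => lo (b i)) = X * Y * X⁻¹ * Y⁻¹ := by
      funext i
      exact hXY i
    rw [e1]; exact hcomm X Y
  choose a b c d hA using fun i => exists_up_lo (A i)
  have e1 : A = (fun i => up (a i)) * (fun i => lo (b i)) * (fun i => up (c i)) * fun i => lo (d i) := by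
    funext i
    exact hA i
  rw [e1, map_mul, map_mul, map_mul]
  change h.L _ (h.L _ (h.L _ (h.L _ w))) = w
  rw [hlo, hup, hlo, hup]

/-- the kernel of `e` as an additive group -/
theorem L_one_block [CharP F 2] (hν : ∃ ν : F, ν ≠ 0 ∧ ν ≠ 1) (i : Fin k) (A : Matrix.SpecialLinearGroup (Fin 2) F)
    {w : W} (hw : e w i = 0) : h.L (Pi.mulSingle i A) w = w := by
  classical
  have hν' := hν
  obtain ⟨ν, h0, h1⟩ := hν
  have hC : ∀ A, ∀ c ∈ e.ker, h.L A c = c := fun A c hc => h.tr0 hν' A (AddMonoidHom.mem_ker.1 hc)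
  have hm : ∀ A, h.L (Pi.mulSingle i A) w + w ∈ e.ker := by
    intro A
    rw [AddMonoidHom.mem_ker, map_add]
    funext j
    rw [Pi.add_apply, h.L_e]
    by_cases hj : j = i
    · subst hj
      rw [hw]
      simp only [Pi.mulSingle_eq_same, Pi.zero_apply, add_zero]
      apply ext2
      · rw [ap_zero']; simp
      · rw [ap_one']; simp
    · rw [Pi.mulSingle_eq_of_ne hj, ap_one]
      funext x
      rw [Pi.add_apply]
      exact CharTwo.add_self_eq_zero _
  have hcomm : ∀ X Y : Matrix.SpecialLinearGroup (Fin 2) F, h.L (Pi.mulSingle i (X * Y * X⁻¹ * Y⁻¹)) w = w := by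
    intro X Y
    rw [Pi.mulSingle_mul, Pi.mulSingle_mul, Pi.mulSingle_mul, Pi.mulSingle_inv, Pi.mulSingle_inv, map_mul, map_mul,
      map_mul, map_inv, map_inv]
    exact comm_fix (hC _) (hC _) (hm X) (hm Y)
  have hup : ∀ b : F, h.L (Pi.mulSingle i (up b)) w = w := fun b => by
    rw [up_comm h0 h1 b]; exact hcomm _ _
  have hlo : ∀ b : F, h.L (Pi.mulSingle i (lo b)) w = w := fun b => by
    obtain ⟨X, Y, hXY⟩ := lo_comm h0 h1 b
    rw [hXY]; exact hcomm _ _
  obtain ⟨a, b, c, d, rfl⟩ := exists_up_lo A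
  rw [Pi.mulSingle_mul, Pi.mulSingle_mul, Pi.mulSingle_mul, map_mul, map_mul, map_mul]
  change h.L _ (h.L _ (h.L _ (h.L _ w))) = w
  rw [hlo, hup, hlo, hup]

/-- the `i`-th factor -/
noncomputable def l (i : Fin k) : Matrix.SpecialLinearGroup (Fin 2) F →* (W ≃ₗ[ZMod 2] W) :=
  h.L.comp (MonoidHom.mulSingle (fun _ => Matrix.SpecialLinearGroup (Fin 2) F) i)

theorem l_apply (i : Fin k) (A : Matrix.SpecialLinearGroup (Fin 2) F) : h.l i A = h.L (Pi.mulSingle i A) := rfl

theorem sl [CharP F 2] (hν : ∃ ν : F, ν ≠ 0 ∧ ν ≠ 1) (i : Fin k) :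
    Sl (h.l i) ((Pi.evalAddMonoidHom (fun _ : Fin k => Fin 2 → F) i).comp e) where
  act := by
    intro A w
    change e (h.L (Pi.mulSingle i A) w) i = ap A (e w i)
    rw [h.L_e, Pi.mulSingle_eq_same]
  tr := fun A w hw => h.L_one_block hν i A hw
  sur := by
    intro x
    obtain ⟨w, hw⟩ := h.surj fun _ => x
    exact ⟨w, by change e w i = x; rw [hw]⟩

end NatW

end Cfsg.Agent.Omega.FOne.ActR

end

section


/-!
# (F1'), the minimal parabolic case: the natural case is impossible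
-/

set_option autoImplicit false
set_option linter.unusedSectionVars false

namespace Cfsg.Agent.Omega.FOne.ActR

open Subgroup
open Cfsg.Agent.Lib.SL2Mat Cfsg.Agent.Omega.NatPair
open Cfsg.Agent.Omega.FOne.Tvw (Base addself z2 eq_of_add_eq_zero' ap_inv inv_ap)
open Cfsg.Agent.Omega.FOne.AT

open Cfsg.Agent.Omega.FOne.Act (not_dvd_inf normalizer_of eq_up c3 cube_mem cube_of_mem ent_c3)

variable {W : Type*} [AddCommGroup W] [Module (ZMod 2) W] {F : Type*} [Field F] {k : ℕ}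

namespace NatW

variable {H : Subgroup (W ≃ₗ[ZMod 2] W)} {R : AddSubgroup W} {T : Subgroup (W ≃ₗ[ZMod 2] W)} {e : W →+ (Fin k → Fin 2 → F)}
variable (h : NatW H R T e)
include h

/-- `|F| > 2` : a vector which is `T`-fixed modulo `R` is in the kernel of `e` -/
theorem e_zero [Finite W] [Fintype F] [DecidableEq F] [CharP F 2] (hν : ∃ ν : F, ν ≠ 0 ∧ ν ≠ 1)
    (two : IsPGroup 2 T) (syl : ¬ 2 ∣ T.relIndex H) (fix : ∀ w, (∀ t ∈ T, t w = w) → w ∈ R) {θ : W}
    (Tθ : ∀ t ∈ T, t θ + θ ∈ R) : e θ = 0 := by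
  classical
  have hfin : Finite (W ≃ₗ[ZMod 2] W) := DFunLike.finite _
  set K : Subgroup (W ≃ₗ[ZMod 2] W) := h.L.range with hKd
  have hKH : K ≤ H := by
    rintro _ ⟨A, rfl⟩
    exact h.L_mem A
  have hKn : ∀ g ∈ H, ∀ x ∈ K, g * x * g⁻¹ ∈ K := by
    rintro g hg _ ⟨A, rfl⟩
    obtain ⟨B, hB⟩ := h.conj_L hg A
    exact ⟨B, hB.symm⟩
  have hodd := not_dvd_inf h.TH syl hKH (normalizer_of hKn)
  have eT : ∀ t ∈ T, e (t θ) = e θ := fun t ht => by
    have h1 := h.toEk.e_R (Tθ t ht)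
    rw [map_add] at h1
    funext i x
    have h2 := congrFun (congrFun h1 i) x
    exact CharTwo.add_eq_zero.1 h2
  -- `θ` is on the lines
  have hθ1 : ∀ i, e θ i 1 = 0 := by
    intro i
    obtain ⟨t, ht, h1, -⟩ := h.unip fun _ => 1
    have h2 := h1 θ i
    rw [eT t ht] at h2
    have h3 := congrFun h2 0
    rw [ap_zero', up_00, up_01] at h3
    linear_combination -h3
  -- the upper unitriangular elements fix `θ`
  have hU : ∀ b : Fin k → F, h.L (fun i => up (b i)) θ = θ := by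
    intro b
    let S : Subgroup (Fin k → Matrix.SpecialLinearGroup (Fin 2) F) :=
      (MulAction.stabilizer (W ≃ₗ[ZMod 2] W) θ).comap h.L
    have hS : ∀ A, A ∈ S ↔ h.L A θ = θ := fun A => Iff.rfl
    rw [← hS]
    refine Subgroup.pi_mem_of_mulSingle_mem _ fun i => ?_
    rw [hS]
    have h1 := (h.sl hν i).up_ap hν (b i) θ
    change h.L (Pi.mulSingle i (up (b i))) θ = _ at h1
    rw [h1]
    have e1 : ((Pi.evalAddMonoidHom (fun _ : Fin k => Fin 2 → F) i).comp e) θ 1 = 0 := hθ1 i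
    rw [e1]
    have e2 : (![b i * 0, 0] : Fin 2 → F) = 0 := by
      apply ext2
      · simp
      · simp
    rw [e2, map_zero, add_zero]
    have e3 : b i * (0 : F) ^ 2 = 0 := by ring
    rw [e3, map_zero, add_zero]
  have hTK : ∀ t ∈ T ⊓ K, t • θ = θ := by
    rintro _ ⟨htT, A, rfl⟩
    -- `A i` preserves the line
    have hA : ∀ i, ent (A i) 1 0 = 0 := by
      intro i
      obtain ⟨σ, hσ⟩ := h.line _ htT
      obtain ⟨w, hw⟩ := h.surj fun _ => ![1, 0]
      obtain ⟨j, rfl⟩ := σ.surjective i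
      have h1 := (hσ w j).2 (by rw [hw]; rfl)
      rw [h.L_e, ap_one', hw] at h1
      simpa using h1
    obtain ⟨n, hn⟩ := two ⟨_, htT⟩
    have hn' : h.L (A ^ 2 ^ n) = h.L 1 := by
      rw [map_pow, map_one]
      exact congrArg Subtype.val hn
    have hAn := h.L_inj hn'
    have e1 : A = fun i => up (ent (A i) 0 1) := by
      funext i
      exact eq_up (hA i) (by
        have := congrFun hAn i
        rwa [Pi.pow_apply] at this)
    rw [e1]
    exact hU _
  have hfix : ∀ w : W, (∀ t ∈ T, t • w = w) → ∀ x ∈ K, x • w = w := by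
    intro w hw x hx
    exact h.base.fix x (hKH hx) w (fix w hw)
  have hfin := Tools.OddFix.odd_fix (G := W ≃ₗ[ZMod 2] W) (W := W) addself two
    (fun t ht x hx => hKn t (h.TH ht) x hx) hodd hfix θ hTK
  funext i
  have h1 := hfin (h.L fun _ => lo 1) ⟨_, rfl⟩
  change h.L (fun _ => lo 1) θ = θ at h1
  have h2 := h.L_e (fun _ => lo 1) θ i
  rw [h1] at h2
  have h3 := congrFun h2 1
  rw [ap_one', lo_10, lo_11] at h3
  apply ext2
  · change e θ i 0 = 0
    linear_combination -h3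
  · exact hθ1 i

/-- `|F| > 2` -/
theorem false_big [Finite W] [Fintype F] [DecidableEq F] [CharP F 2] (hν : ∃ ν : F, ν ≠ 0 ∧ ν ≠ 1) (hk : 0 < k)
    (two : IsPGroup 2 T) (syl : ¬ 2 ∣ T.relIndex H) (fix : ∀ w, (∀ t ∈ T, t w = w) → w ∈ R)
    (gen : ∀ U : Submodule (ZMod 2) W, (∀ r ∈ R, r ∈ U) →
      (∀ w, (∀ t ∈ T, t w + w ∈ R) → ∀ x ∈ H, x w ∈ U) → U = ⊤) : False := by
  let U : Submodule (ZMod 2) W :=
    { carrier := {w | e w = 0}
      zero_mem' := map_zero e
      add_mem' := by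
        intro a b ha hb
        change e (a + b) = 0
        change e a = 0 at ha
        change e b = 0 at hb
        rw [map_add, ha, hb, add_zero]
      smul_mem' := by
        intro c w hw
        rcases z2 c with rfl | rfl
        · rw [zero_smul]; exact map_zero e
        · rw [one_smul]; exact hw }
  have hUt := gen U h.eR fun w hw x hx => h.kinv x hx w (h.e_zero hν two syl fix hw)
  obtain ⟨w, hw⟩ := h.surj fun _ => ![1, 0]
  have h4 : w ∈ U := by rw [hUt]; exact Submodule.mem_top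
  have h5 : e w = 0 := h4
  rw [hw] at h5
  have h6 := congrFun (congrFun h5 ⟨0, hk⟩) 0
  exact one_ne_zero h6

/-- `|F| = 2` -/
theorem false_two [Finite W] [CharP F 2] (hF : ∀ x : F, x = 0 ∨ x = 1) (hk : 0 < k)
    (two : IsPGroup 2 T) (fix : ∀ w, (∀ t ∈ T, t w = w) → w ∈ R) : False := by
  classical
  have hfin : Finite (W ≃ₗ[ZMod 2] W) := DFunLike.finite _
  set K : Subgroup (W ≃ₗ[ZMod 2] W) :=
    (Subgroup.pi Set.univ (fun _ : Fin k => zpowers (c3 F))).map h.L with hKd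
  have hKH : K ≤ H := by
    rintro _ ⟨A, -, rfl⟩
    exact h.L_mem A
  have hcube : ∀ x ∈ K, x ^ 3 = 1 := by
    rintro _ ⟨A, hA, rfl⟩
    rw [← map_pow]
    have : A ^ 3 = 1 := by
      funext i
      rw [Pi.pow_apply]
      exact cube_of_mem (hA i (Set.mem_univ i))
    rw [this, map_one]
  have hKn : ∀ g ∈ H, ∀ x ∈ K, g * x * g⁻¹ ∈ K := by
    rintro g hg x hx
    have h3 := hcube x hx
    obtain ⟨A, hA, rfl⟩ := hx
    obtain ⟨B, hB⟩ := h.conj_L hg A
    refine ⟨B, fun i _ => ?_, hB.symm⟩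
    have h4 : (g * h.L A * g⁻¹) ^ 3 = 1 := by
      rw [conj_pow, h3, mul_one, mul_inv_cancel]
    rw [hB, ← map_pow, ← map_one h.L] at h4
    have h5 := congrFun (h.L_inj h4) i
    rw [Pi.pow_apply, Pi.one_apply, pow_succ, pow_two] at h5
    exact cube_mem hF h5
  have hK3 : IsPGroup 3 K := fun x => ⟨1, Subtype.ext (by
    change (x : W ≃ₗ[ZMod 2] W) ^ 3 ^ 1 = 1
    rw [pow_one]; exact hcube x x.2)⟩
  have hodd : ¬ 2 ∣ (T ⊓ K).relIndex K := by
    intro h2
    obtain ⟨n, hn⟩ := IsPGroup.iff_card.1 hK3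
    have h3 : (T ⊓ K).relIndex K ∣ Nat.card K := Subgroup.relIndex_dvd_card _ _
    rw [hn] at h3
    have h4 := Nat.Prime.dvd_of_dvd_pow Nat.prime_two (h2.trans h3)
    omega
  have hTK : ∀ w : W, ∀ t ∈ T ⊓ K, t • w = w := by
    rintro w t ⟨htT, htK⟩
    obtain ⟨n, hn⟩ := two ⟨t, htT⟩
    have h2 : t ^ 2 ^ n = 1 := congrArg Subtype.val hn
    have h3 := hcube t htK
    have h4 : orderOf t ∣ 2 ^ n := orderOf_dvd_of_pow_eq_one h2
    have h5 : orderOf t ∣ 3 := orderOf_dvd_of_pow_eq_one h3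
    have h6 : orderOf t ∣ Nat.gcd (2 ^ n) 3 := Nat.dvd_gcd h4 h5
    have h7 : Nat.gcd (2 ^ n) 3 = 1 := Nat.Coprime.pow_left n (by norm_num)
    rw [h7, Nat.dvd_one, orderOf_eq_one_iff] at h6
    rw [h6]
    rfl
  have hfix : ∀ w : W, (∀ t ∈ T, t • w = w) → ∀ x ∈ K, x • w = w := by
    intro w hw x hx
    exact h.base.fix x (hKH hx) w (fix w hw)
  obtain ⟨w, hw⟩ := h.surj fun _ => ![1, 0]
  have h1 := Tools.OddFix.odd_fix (G := W ≃ₗ[ZMod 2] W) (W := W) addself two
    (fun t ht x hx => hKn t (h.TH ht) x hx) hodd hfix w (hTK w) (h.L fun _ => c3 F)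
    ⟨_, fun i _ => mem_zpowers _, rfl⟩
  change h.L (fun _ => c3 F) w = w at h1
  have h2 := h.L_e (fun _ => c3 F) w ⟨0, hk⟩
  rw [h1, hw] at h2
  have h3 := congrFun h2 0
  rw [ap_zero', ent_c3.1, ent_c3.2.1] at h3
  simp at h3

end NatW

end Cfsg.Agent.Omega.FOne.ActR

end

section


/-!
# THEOREM AT, step (2): the map `f : W → F`
-/

set_option autoImplicit false
set_option linter.unusedSectionVars false

namespace Cfsg.Agent.Omega.FOne.AT

open Cfsg.Agent.Lib.SL2Mat Cfsg.Agent.Omega.NatPair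
open Cfsg.Agent.Omega.FOne.Tvw (Base addself z2 eq_of_add_eq_zero' ap_inv inv_ap)

variable {W : Type*} [AddCommGroup W] [Module (ZMod 2) W] {F : Type*} [Field F]
variable {H : Subgroup (W ≃ₗ[ZMod 2] W)} {y : W} {V : Submodule (ZMod 2) W}
  {l : Matrix.SpecialLinearGroup (Fin 2) F →* (W ≃ₗ[ZMod 2] W)} {e : W →+ (Fin 2 → F)}

/-- the coordinate of an additive map into `{0, y}` -/
theorem exists_cf {A : Type*} [AddCommGroup A] {y : W} (y0 : y ≠ 0) (β : A →+ W) (hβ : ∀ a, β a ∈ Yy y) :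
    ∃ ψ : A →+ ZMod 2, ∀ a, β a = ψ a • y := by
  classical
  refine ⟨AddMonoidHom.mk' (fun a => if β a = 0 then 0 else 1) fun a b => ?_, fun a => ?_⟩
  · rcases hβ a with h1 | h1 <;> rcases hβ b with h2 | h2 <;> rw [map_add, h1, h2]
    · simp
    · simp [y0]
    · simp [y0]
    · rw [addself]; simp [y0]; decide
  · change β a = (if β a = 0 then (0 : ZMod 2) else 1) • y
    rcases hβ a with h1 | h1 <;> rw [h1]
    · simp
    · simp [y0]

namespace Cor

variable (h : Cor H y V l e) [Fintype F] [DecidableEq F] [CharP F 2] (hν : ∃ ν : F, ν ≠ 0 ∧ ν ≠ 1)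
include hν

/-- the commutator of `r` with a torus element -/
theorem exists_qq {r : W ≃ₗ[ZMod 2] W} (hr : r ∈ H) (hrV : ∀ v ∈ V, r v + v ∈ Yy y)
    (hx : ∃ x, r (sg h.toSl x) ≠ sg h.toSl x) : ∃ η ψ, (η, ψ) ∈ h.QQ ∧ ψ ≠ 0 := by
  obtain ⟨x, hx⟩ := hx
  let R : W →+ W := lin r + AddMonoidHom.id W
  have hR : ∀ w, R w = r w + w := fun w => rfl
  have hRV : ∀ v ∈ V, R v ∈ Yy y := hrV
  have hV := h.sg_mem
  obtain ⟨s, hs⟩ : ∃ s : Fˣ, R (l (tor s) (sg h.toSl x)) ≠ R (sg h.toSl x) := by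
    by_contra hcon
    push Not at hcon
    have e1 : ∑ s : Fˣ, R (l (tor s) (sg h.toSl x)) = R (sg h.toSl x) := by
      simp only [hcon]
      rw [Finset.sum_const, Finset.card_univ]
      exact odd_nsmul odd_units _
    have e2 : ∑ s : Fˣ, R (l (tor s) (sg h.toSl x)) = 0 := by
      rw [← map_sum]
      change R (nn l (sg h.toSl x)) = 0
      rw [h.toSl.nn_sg hν, map_zero]
    rw [e2] at e1
    apply hx
    exact eq_of_add_eq_zero' e1.symm
  set A : Matrix.SpecialLinearGroup (Fin 2) F := (tor s)⁻¹ with hA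
  have hlA : (l A)⁻¹ = l (tor s) := by rw [hA, map_inv, inv_inv]
  have hAH := h.lH A
  set g : W ≃ₗ[ZMod 2] W := l A * r * (l A)⁻¹ * r⁻¹ with hg
  have hgH : g ∈ H := H.mul_mem (H.mul_mem (H.mul_mem hAH hr) (H.inv_mem hAH)) (H.inv_mem hr)
  have hgw : ∀ w, g w = l A (r ((l A)⁻¹ (r⁻¹ w))) := fun w => rfl
  have hAV : ∀ v ∈ V, (l A)⁻¹ v ∈ V := fun v hv => by rw [hlA]; exact h.lV _ v hv
  -- the action on `V`
  have hrinv : ∀ v ∈ V, r⁻¹ v = v + R v := by
    intro v hv
    have h1 := hRV v hv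
    apply r.injective
    rw [ap_inv, map_add, Base.fixY h.base hr h1, hR]
    linear_combination (norm := module) -addself (r v)
  have hgV : ∀ v ∈ V, g v = v + (R v + R (l (tor s) v)) := by
    intro v hv
    have h1 := hRV v hv
    have h2 := hRV _ (h.lV (tor s) v hv)
    rw [hgw, hrinv v hv, map_add, hlA, Base.fixY h.base (h.lH _) h1, map_add, Base.fixY h.base hr h1]
    have h3 : r (l (tor s) v) = l (tor s) v + R (l (tor s) v) := by
      rw [hR]
      linear_combination (norm := module) -addself (l (tor s) v)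
    rw [h3, map_add, map_add, Base.fixY h.base hAH h1, Base.fixY h.base hAH h2]
    have h4 : l A (l (tor s) v) = v := by rw [← l_mul, hA, inv_mul_cancel, l_one]
    rw [h4]; abel
  -- the additive map
  let β : (Fin 2 → F) →+ W := (R + R.comp (lin (l (tor s)))).comp (sg h.toSl)
  have hβ : ∀ z, β z = R (sg h.toSl z) + R (l (tor s) (sg h.toSl z)) := fun z => rfl
  obtain ⟨ψ, hψ⟩ := exists_cf h.base.y0 β fun z => by
    rw [hβ]
    exact (Yy y).add_mem (hRV _ (hV z)) (hRV _ (h.lV _ _ (hV z)))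
  refine ⟨lin g + AddMonoidHom.id W, ψ, h.mem_QQ.2 ⟨fun w => ?_, fun v hv => ?_, g, hgH, fun w => ?_, fun v hv => ?_⟩,
    fun h0 => ?_⟩
  · change g w + w ∈ V
    set u := r⁻¹ w with hu
    have hw : r u = w := ap_inv _ _
    have h1 : (l A)⁻¹ u + u ∈ V := by rw [hlA]; exact h.comm_mem _ hν u
    set m := (l A)⁻¹ u + u with hm
    have h2 : (l A)⁻¹ u = u + m := by
      rw [hm]; linear_combination (norm := module) -addself u
    have h3 : r m ∈ V := by
      have h4 : r m = m + R m := by rw [hR]; linear_combination (norm := module) -addself m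
      rw [h4]
      refine V.add_mem h1 ?_
      rcases hRV m h1 with h5 | h5 <;> rw [h5]
      · exact V.zero_mem
      · exact h.yV
    have h4 : g w = l A w + l A (r m) := by rw [hgw, ← hu, h2, map_add, hw, map_add]
    have h5 : g w + w = (l A w + w) + l A (r m) := by rw [h4]; abel
    rw [h5]
    exact V.add_mem (h.comm_mem _ hν w) (h.lV _ _ h3)
  · change g v + v ∈ Yy y
    rw [hgV v hv]
    have h1 : v + (R v + R (l (tor s) v)) + v = R v + R (l (tor s) v) := by
      linear_combination (norm := module) addself v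
    rw [h1]
    exact (Yy y).add_mem (hRV _ hv) (hRV _ (h.lV _ _ hv))
  · change g w + w + (g w + w) ∈ Yy y
    rw [addself]; exact (Yy y).zero_mem
  · change g v = v + ψ (e v) • y
    rw [← hψ, hgV v hv, hβ]
    obtain ⟨c, hc, hv'⟩ := h.toSl.exists_dec v hν
    have h1 : R (l (tor s) v) = R (l (tor s) (sg h.toSl (e v))) + R c := by
      nth_rewrite 1 [hv']
      rw [map_add, h.tr _ c hc, map_add]
    have h2 : R v = R (sg h.toSl (e v)) + R c := by
      nth_rewrite 1 [hv']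
      rw [map_add]
    rw [h1, h2]
    linear_combination (norm := module) addself (R c)
  · have h1 := hψ x
    rw [h0] at h1
    change β x = (0 : ZMod 2) • y at h1
    rw [zero_smul, hβ] at h1
    exact hs (eq_of_add_eq_zero' h1).symm

/-- the value on the second axis may be assumed to be non-zero -/
theorem exists_pp {r : W ≃ₗ[ZMod 2] W} (hr : r ∈ H) (hrV : ∀ v ∈ V, r v + v ∈ Yy y)
    (hx : ∃ x, r (sg h.toSl x) ≠ sg h.toSl x) : ∃ γ ψ, h.PP γ ψ ∧ ∃ t : F, ψ ![0, t] ≠ 0 := by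
  obtain ⟨η, ψ, h1, h2⟩ := h.exists_qq hν hr hrV hx
  have h3 : h.PP (e.comp η) ψ := h.pur hν h1
  by_cases h4 : ∃ t : F, ψ ![0, t] ≠ 0
  · exact ⟨_, _, h3, h4⟩
  push Not at h4
  refine ⟨_, _, PP.ap h hν h3 wl, ?_⟩
  by_contra hcon
  push Not at hcon
  apply h2
  refine AddMonoidHom.ext fun x => ?_
  have e1 : x = ![x 0, 0] + ![0, x 1] := by apply ext2 <;> simp
  rw [e1, map_add, h4, add_zero]
  have e2 := hcon (-x 0)
  change ψ (NatPair.ap wl⁻¹ ![0, -x 0]) = 0 at e2
  have e3 : NatPair.ap (wl : Matrix.SpecialLinearGroup (Fin 2) F)⁻¹ ![0, -x 0] = ![x 0, 0] := by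
    rw [ent_inv]
    apply ext2
    · rw [ap_zero']; simp
    · rw [ap_one']; simp
  rw [e3] at e2
  exact e2

/-- **step (2)** -/
theorem exists_f {r : W ≃ₗ[ZMod 2] W} (hr : r ∈ H) (hrV : ∀ v ∈ V, r v + v ∈ Yy y)
    (hx : ∃ x, r (sg h.toSl x) ≠ sg h.toSl x) :
    ∃ (f : W →+ F) (χ : F →+ ZMod 2), χ ≠ 0 ∧ (∀ v ∈ V, f v = 0) ∧
      ∀ t : F, ∃ g ∈ H, (∀ w, g w + w + sg h.toSl ![0, t * f w] ∈ Yy y) ∧ ∀ v ∈ V, g v = v + χ (t * e v 0) • y := by
  obtain ⟨γ, ψ, h1, t0, ht0⟩ := h.exists_pp hν hr hrV hx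
  let f : W →+ F := (Pi.evalAddMonoidHom (fun _ : Fin 2 => F) 0).comp γ
  have hf : ∀ w, f w = γ w 0 := fun w => rfl
  let χ : F →+ ZMod 2 := ψ.comp (AddMonoidHom.mk' (fun t : F => ![0, t]) fun a b => by apply ext2 <;> simp)
  have hχ : ∀ t, χ t = ψ ![0, t] := fun t => rfl
  refine ⟨f, χ, fun h0 => ht0 ?_, fun v hv => ?_, fun t => ?_⟩
  · rw [← hχ, h0]; rfl
  · have h2 := (h.mem_QQ.1 h1).2.1 v hv
    have h3 : e (sg h.toSl (γ v)) = 0 := by
      rcases h2 with h2 | h2
      · change sg h.toSl (γ v) = 0 at h2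
        rw [h2, map_zero]
      · change sg h.toSl (γ v) = y at h2
        rw [h2, h.ey]
    rw [h.toSl.e_sg hν] at h3
    rw [hf, h3]; rfl
  · have h2 := PP.add h (PP.ap h hν h1 (lo t)) h1
    obtain ⟨-, -, g, hg, h3, h4⟩ := h.mem_QQ.1 h2
    refine ⟨g, hg, fun w => ?_, fun v hv => ?_⟩
    · have h5 := h3 w
      have h6 : ((apH (lo t)).comp γ + γ) w = ![0, t * f w] := by
        change NatPair.ap (lo t) (γ w) + γ w = _
        apply ext2
        · rw [Pi.add_apply, ap_zero']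
          simp
          exact CharTwo.add_self_eq_zero _
        · rw [Pi.add_apply, ap_one', hf]
          simp
          rw [add_assoc, CharTwo.add_self_eq_zero, add_zero]
      rw [← h6]
      exact h5
    · have h5 := h4 v hv
      rw [h5]
      congr 2
      change ψ (NatPair.ap (lo t)⁻¹ (e v)) + ψ (e v) = _
      rw [← map_add, hχ]
      congr 1
      rw [lo_inv]
      apply ext2
      · rw [Pi.add_apply, ap_zero']
        simp
        exact CharTwo.add_self_eq_zero _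
      · rw [Pi.add_apply, ap_one']
        simp
        rw [add_assoc, CharTwo.add_self_eq_zero, add_zero, CharTwo.neg_eq]

end Cor

end Cfsg.Agent.Omega.FOne.AT

end
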